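import Mathlib
import Cfsg.Agent.Lib.ChTab.Cent
import Cfsg.Agent.Lib.MathRec.T23a

/-!
In a simple group whose order divides 244823040 the elements of order 23 are self-centralizing.
-/

set_option autoImplicit false

namespace CfsgLib.MathRec.K23

open Cfsg CfsgLib.Char CfsgLib.Block CfsgLib.DefectOne CfsgLib.DefectOne.B43 CfsgLib.Tuan
  CfsgLib.ChTab Subgroup Finset MulAction T11 T23

theorem chk2 : (allDivs 10644480 3262).all (fun d => Nat.blt d 46 ||
    (d % 23 != 1 || 10644480 % (d + 1) != 0) && (d % 23 != 22 || 10644480 % (d - 1) != 0)) =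
    true := by decide +kernel

theorem chkS : (allDivs 967680 983).all (fun s => s % 23 != 1 || s == 1 || s == 967680 ||
    s % 2 == 0 && (allDivs 10644480 3262).all fun d => Nat.blt d 506 || Nat.blt 15646 d ||
      [11, 22].all fun e => e * s % d != 0 || [2, 5, 10].all fun f => [22, -22, 11, -11].all
        fun a => [10, -10, 5, -5, 2, -2].all fun b => !(scrow' 23 e d a && scrow' 11 f d b &&
          decide (b * a < 0)) || s == 40320 && [(11, 1920, 5), (22, 3840, 2), (22, 3840, 5),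
            (22, 3840, 10)].contains (e, d, f)) = true := by decide +kernel

theorem chkH : (allDivs 40320 200).all (fun s => s % 23 != 1 || s % 5 != 0 ||
    23 * s / 5 % 11 != 1 || s == 40320) = true := by decide +kernel

variable {G : Type*} [Group G] [Finite G] [IsSimpleGroup G] {x : G}

theorem sc (hna : ∃ a b : G, a * b ≠ b * a) (hG : Nat.card G ∣ 244823040) (hx : Syl 23 x) :
    SC 23 x := by
  classical
  refine sc_of_kk hx (by_contra fun hk => ?_)
  obtain ⟨ζ, hζ, ⟨D⟩⟩ := exists_data hx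
  have hperf := commutator_eq_top hna
  have h1 := ee_ne_one_of_perfect hx hperf
  have h2 : ee x ∈ Nat.divisors 22 := Nat.mem_divisors.mpr ⟨ee_dvd hx, by decide⟩
  have h3 := card_eq_mul hx
  have h4 := card_sylow_ne_one_of_perfect hx hperf
  have h5 : Nat.card (Sylow 23 G) % 23 = 1 := card_sylow_modEq_one 23 G
  have h6 := div_eq_index hx
  have h7 := kk_pos hx
  rw [card_CC_eq hx] at h3
  generalize Nat.card (Sylow 23 G) = s at *
  have h8 : kk 23 x * (ee x * s) ∣ 10644480 := (Nat.mul_dvd_mul_iff_left (by decide : 0 < 23)).mp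
    (by rw [← mul_assoc, ← mul_assoc, ← h3]; exact hG)
  have h9 : ∀ χ, χ ∈ D.X ∨ χ ∈ Ys D → dg χ ∣ ee x * s ∧ dg χ ∈ allDivs 10644480 3262 ∧
      vv 23 x χ ≠ 0 ∧ scrow' 23 (ee x) (dg χ) (vv 23 x χ) = true := fun χ h => by
    have := cdrow_of D hx hζ h
    simp only [cdrow, Bool.and_eq_true, beq_iff_eq, bne_iff_ne, h6,
      ← Nat.dvd_iff_mod_eq_zero] at this
    exact ⟨this.1.1, mem_allDivs (by decide) (by decide) (this.1.1.trans
      ((dvd_mul_left _ _).trans h8)), this.1.2, this.2⟩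
  rw [show Nat.divisors 22 = {1, 2, 11, 22} by decide] at h2
  by_cases he : ee x = 2
  · obtain ⟨t, ht⟩ := Multiset.card_eq_one.mp ((card_SX D hx).trans (by omega))
    obtain ⟨χ, hχ, rfl⟩ := Multiset.mem_map.mp (ht ▸ Multiset.mem_singleton_self t : t ∈ SX D)
    have a1 := mem_of_mem_erase hχ
    have a2 := List.all_eq_true.mp chk2 _ (h9 χ (Or.inl a1)).2.1
    have a3 := BZ.two_mul_le hna (D := D) hx (by rw [card_CC_eq hx]; omega) (Or.inl a1)
      (ne_of_mem_erase hχ)
    have a4 := (h9 _ (Or.inr (Y_mem_Ys D 1))).1.trans ((dvd_mul_left _ _).trans h8)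
    have a5 := zz_eq D
    have a6 : (dg χ : ℤ) ≡ _ [ZMOD _] := D.X_deg χ a1
    rw [dg_of_mem_Ys D (Y_mem_Ys D 1), ← natAbs_zz] at a4
    rw [ht, Multiset.sum_singleton, sd] at a5
    simp only [Bool.or_eq_true, Bool.and_eq_true, Nat.blt_eq, bne_iff_ne] at a2
    rcases D.δ_sign χ a1 with c | c <;> rw [c] at a5 a6 <;> rw [Int.ModEq] at a6
    · exact (a2.resolve_left (by omega)).1.elim (by omega) fun h =>
        h (Nat.mod_eq_zero_of_dvd (by rwa [show dg χ + 1 = (zz D).natAbs by omega]))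
    · exact (a2.resolve_left (by omega)).2.elim (by omega) fun h =>
        h (Nat.mod_eq_zero_of_dvd (by rwa [show dg χ - 1 = (zz D).natAbs by omega]))
  have he' : ee x = 11 ∨ ee x = 22 := by simp at h2; omega
  obtain ⟨w, hw, b1, b2⟩ := exists_syl_mem_NN (q := 11) hx (by omega)
    fun h => absurd (h.trans hG) (by decide)
  obtain ⟨ξ, hξ, ⟨E⟩⟩ := exists_data hw
  have b3 : kk 23 x * s ∣ 967680 := (Nat.mul_dvd_mul_iff_left (by decide : 0 < 11)).mp
    (Dvd.dvd.trans (by rw [mul_left_comm]; exact mul_dvd_mul_left _ (mul_dvd_mul_right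
      (by omega) _)) h8)
  have b4 := List.all_eq_true.mp chkS s (mem_allDivs (by decide) (by decide)
    ((dvd_mul_left _ _).trans b3))
  simp only [Bool.or_eq_true, Bool.and_eq_true, bne_iff_ne, beq_iff_eq, List.all_eq_true,
    Nat.blt_eq, h5, h4, ne_eq, not_true, false_or] at b4
  replace b4 := b4.resolve_left fun e => by
    have := Nat.le_of_dvd (by decide) b3
    rw [e] at this; omega
  have b5 := KK_le hx hw b1 b2 (m := 483840) ((Nat.mul_dvd_mul_iff_right (by decide : 0 < 2)).mp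
    ((mul_dvd_mul_left _ (Nat.dvd_of_mod_eq_zero b4.1)).trans b3)) (by decide +kernel)
  obtain ⟨⟨y, hy⟩, b6⟩ := (ne_bot_iff_exists_ne_one (H := hx.KK)).mp fun e => hk (by
    rw [← card_KK hx, e, card_bot])
  obtain ⟨χ, a1, a2, a3, a4⟩ := exists_neg D E hx hw hξ b2
  have b7 := two_mul_mul_le hna (D := D) (E := E) hx hw (by decide) (fun e => b6 (Subtype.ext e))
    (mem_CC.mp hy.1) hy.2 (mem_CC.mp (b5 hy).1) (b5 hy).2 (or_assoc.mp (Or.inl a2))
    (or_assoc.mp (Or.inl a3)) a1
  obtain ⟨c1, c2, c3, c4⟩ := h9 χ a2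
  have c5 := cdrow_of E hw hξ a3
  have c6 : ee w ∈ Nat.divisors 10 := Nat.mem_divisors.mpr ⟨ee_dvd hw, by decide⟩
  have c7 := ee_ne_one_of_perfect hw hperf
  have c8 := (dg_sq_le χ).trans (Nat.le_of_dvd (by decide) hG)
  rw [show Nat.divisors 10 = {1, 2, 5, 10} by decide] at c6
  simp only [cdrow, Bool.and_eq_true, beq_iff_eq, bne_iff_ne, div_eq_index hw,
    ← Nat.dvd_iff_mod_eq_zero] at c5
  have c9 := ((((b4.2 _ c2).resolve_left (not_or.mpr ⟨by omega, fun h => by nlinarith⟩) (ee x)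
    (by simpa using he')).resolve_left (not_not.mpr (Nat.mod_eq_zero_of_dvd c1)) (ee w)
    (by simp at c6 ⊢; omega) (vv 23 x χ) (by simp [scrow'] at c4 ⊢; omega) (vv 11 w χ)
    (by have := c5.2; simp [scrow'] at c6 this ⊢; omega))).resolve_left (by simp [c4, c5.2, a4])
  obtain ⟨t, ht⟩ : kk 23 x ∣ kk 11 w := card_KK hx ▸ card_KK hw ▸ card_dvd_of_le b5
  have d1 := card_eq_mul hw
  have d2 : Nat.card (Sylow 11 G) % 11 = 1 := card_sylow_modEq_one 11 G
  have d3 : ¬ 23 ∣ t := fun h => b2 (card_CC_eq hx ▸ (dvd_kk_symm hw hx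
    (ht ▸ h.mul_left _)).mul_left _)
  rw [card_CC_eq hw, h3, ht, c9.1] at d1
  generalize Nat.card (Sylow 11 G) = u at *
  have d4 : 23 * ee x * 40320 = 11 * (t * (ee w * u)) :=
    Nat.eq_of_mul_eq_mul_left h7 (by linarith)
  obtain ⟨v, hv⟩ := c5.1.1
  have d5 : t = 1 ∧ ee x * 5 = 11 * ee w := by
    have := c9.2
    simp only [List.contains_iff_mem, List.mem_cons, Prod.mk.injEq, List.not_mem_nil,
      or_false] at this
    have d6 : t * v = 483 := by
      rw [hv, mul_left_comm t] at d4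
      rcases this with h | h | h | h <;> rw [h.1, h.2.1] at d4 <;> omega
    have d7 : t ∈ Nat.divisors 483 := Nat.mem_divisors.mpr ⟨Dvd.intro _ d6, by decide⟩
    rw [show Nat.divisors 483 = {1, 3, 7, 21, 23, 69, 161, 483} by decide +kernel] at d7
    simp only [mem_insert, mem_singleton] at d7
    rcases this with h | h | h | h <;> rw [h.1, h.2.2] at d4 ⊢ <;>
      rcases d7 with c | c | c | c | c | c | c | c <;> rw [c] at d3 d4 ⊢ <;> omega
  have e1 : hx.KK = hw.KK := eq_of_le_of_card_ge b5 (by rw [card_KK, card_KK, ht, d5.1, mul_one])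
  obtain ⟨s1, f1, f2⟩ := card_of_NN_le hx (H := normalizer (hx.KK : Set G)) fun n hn =>
    mem_normalizer_fintype fun _ => hx.conj_mem_KK hn
  obtain ⟨s2, f3, f4⟩ := card_of_NN_le hw (H := normalizer (hx.KK : Set G)) fun n hn =>
    e1 ▸ mem_normalizer_fintype fun _ => hw.conj_mem_KK hn
  have f5 := card_subgroup_dvd_card (normalizer (hx.KK : Set G))
  rw [f2, h3, c9.1, mul_comm s1, Nat.mul_dvd_mul_iff_left (by have := ee_pos x; positivity)] at f5
  have f6 : 23 * s1 = 5 * s2 := Nat.eq_of_mul_eq_mul_left (Nat.mul_pos h7 (ee_pos x)) (by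
    rw [f2, ht, d5.1, mul_one] at f4
    linear_combination f4 + s2 * kk 23 x * d5.2.symm)
  have f7 := List.all_eq_true.mp chkH s1 (mem_allDivs (by decide) (by decide) f5)
  simp only [Bool.or_eq_true, bne_iff_ne, beq_iff_eq] at f7
  have f9 : s1 = 40320 := by clear * - f1 f3 f6 f7; omega
  have f8 : hx.KK.Normal := normalizer_eq_top_iff.mp (eq_top_of_card_eq _ (by
    rw [f2, h3, c9.1, f9]; exact mul_comm _ _))
  rcases f8.eq_bot_or_eq_top with c | c
  · exact b6 (Subtype.ext (c.le hy))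
  · exact (c.ge (mem_top x)).2 hx.ord.symm.dvd

end CfsgLib.MathRec.K23
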