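import Mathlib
import Cfsg.Agent.Lib.MathRec.K23

/-!
The orders of the simple groups whose order divides the order of a Mathieu group.
-/

set_option autoImplicit false

namespace CfsgLib.MathRec.DegS

open Cfsg CfsgLib.Char CfsgLib.Block CfsgLib.DefectOne CfsgLib.DefectOne.B43 CfsgLib.Tuan
  CfsgLib.ChTab Subgroup Finset MulAction T11 T23

/-- The exact powers of 2 and 3. -/
def qs (n : ℕ) : List (ℕ × ℕ) := ([2, 3] ×ˢ List.range 11).filter fun q =>
  n % q.1 ^ q.2 == 0 && n % q.1 ^ (q.2 + 1) != 0 && q.2 != 0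

/-- The comparison of two options. -/
noncomputable def pr (p q : ℕ) (A B : Opt) : Bool := lowOK p q A B && pairOK p q A B

/-- No option for `q` is compatible with `A`. -/
noncomputable def kill (Ds : List ℕ) (n p q : ℕ) (A : Opt) : Bool :=
  n % q == 0 && n % q ^ 2 != 0 && ropts Ds n q (fun _ k => kOK p q A.1 A.2.1 k) (fun _ _ _ => true)
    fun B => !(btOK q (qs n) B && pr p q A B)

/-- The search for a self-centralizing element of order 23. -/
noncomputable def dead (n e : ℕ) : Bool :=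
  frcN (divs n 4517) fun Ds =>
  ropts Ds n 11 (fun _ k => k % 23 != 0 && (e != 22 || k % 2 == 0)) (fun _ _ => vok 23 e) fun A =>
    !(rsum 11 (vf 23 e) A == 0 && btOK 11 (qs n) A && selfOK 11 5 A) ||
    ropts Ds n 5 (fun _ k => k % 23 != 0 && kOK 11 5 A.1 A.2.1 k) (fun _ _ => vok 23 e) fun B =>
      !(rsum 5 (vf 23 e) B == 0 && btOK 5 (qs n) B && pr 11 5 A B) ||
      ropts Ds n 7 (fun _ k => k % 23 != 0 && kOK 11 7 A.1 A.2.1 k && kOK 5 7 B.1 B.2.1 k)
        (fun _ _ => vok 23 e) fun C =>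
          !(rsum 7 (vf 23 e) C == 0 && btOK 7 (qs n) C && pr 11 7 A C && pr 5 7 B C)

theorem chk11 : frcN (divs 443520 665) (fun Ds => (allDivs 40320 200).all fun m =>
    frc (11 * m) fun n => [660, 7920, 443520].contains n || frcN (sub Ds n) fun Ds =>
      ropts Ds n 11 (fun _ _ => true) (fun _ _ _ => true) fun A =>
        !btOK 11 (qs n) A || kill Ds n 11 7 A || kill Ds n 11 5 A) = true := by decide +kernel

theorem chkA : dead 425040 11 = true ∧ dead 850080 22 = true := by decide +kernel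

theorem chkB : dead 20401920 22 = true := by decide +kernel

theorem chk23 : frcN (divs 244823040 15646) (fun Ds => (allDivs 10644480 3262).all fun m =>
    [2, 11, 22].all fun e => m % e != 0 || m / e % 23 != 1 || frc (23 * m) fun n =>
      [6072, 10626, 17710, 45540, 10200960, 244823040].contains n ||
      [(425040, 11), (850080, 22), (20401920, 22)].contains (n, e) || frcN (sub Ds n) fun Ds =>
        rcheck Ds n 23 (fun _ => true) (fun A => !btOK 23 (qs n) A || kill Ds n 23 11 A) e 1) =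
    true := by decide +kernel

theorem qs_spec (n : ℕ) : ∀ q ∈ qs n, q.1.Prime ∧ q.1 ^ q.2 ∣ n ∧ ¬ q.1 ^ (q.2 + 1) ∣ n ∧
    q.2 ≠ 0 := fun q hq => by
  simp only [qs, List.mem_filter, Bool.and_eq_true, beq_iff_eq, bne_iff_ne, ne_eq,
    ← Nat.dvd_iff_mod_eq_zero] at hq
  refine ⟨?_, hq.2.1.1, hq.2.1.2, hq.2.2⟩
  have := (List.mem_product.mp hq.1).1
  simp only [List.mem_cons, List.not_mem_nil, or_false] at this
  rcases this with h | h <;> rw [h] <;> norm_num

variable {G : Type*} [Group G] [Finite G] [IsSimpleGroup G] {p q : ℕ} [hp : Fact p.Prime]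
  [hq : Fact q.Prime] {x w : G} {ζ ξ : ℂ}

theorem pr_of (hna : ∃ a b : G, a * b ≠ b * a) {D : PrinData p x ζ} {E : PrinData q w ξ}
    (hs : Syl p x) (ht : Syl q w) (hξ : IsPrimitiveRoot ξ q) (hpq : p ≠ q) {A B : Opt}
    (hA : IsOpt D A) (hB : IsOpt E B) : pr p q A B = true := by
  rw [pr, lowOK_of hna hs ht hA hB, pairOK_of hna hs ht hξ hpq hA hB]; rfl

theorem kill_eq (hna : ∃ a b : G, a * b ≠ b * a) {D : PrinData p x ζ} (hs : Syl p x) (hpq : p ≠ q)
    {A : Opt} (hA : IsOpt D A) {Ds : List ℕ} (hD : Good (Nat.card G) Ds) :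
    kill Ds (Nat.card G) p q A = false := by
  refine Bool.eq_false_iff.mpr fun h => ?_
  simp only [kill, Bool.and_eq_true, beq_iff_eq, bne_iff_ne, ne_eq,
    ← Nat.dvd_iff_mod_eq_zero] at h
  obtain ⟨w, hw⟩ := exists_syl (G := G) (p := q) h.1.1 h.1.2
  obtain ⟨ξ, hξ, ⟨E⟩⟩ := exists_data hw
  obtain ⟨B, h1, h2⟩ := ropts_sound' hna hw hξ E rfl hD h.2 (by rw [hA.e, hA.k, kOK_of hs hw])
    fun _ _ _ => rfl
  rw [h1.btOK hw hξ (qs_spec _), pr_of hna hs hw hξ hpq hA h1] at h2
  exact Bool.false_ne_true h2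

theorem card11 (hna : ∃ a b : G, a * b ≠ b * a) (hG : Nat.card G ∣ 443520)
    (h : 11 ∣ Nat.card G) : Nat.card G ∈ [660, 7920, 443520] := by
  obtain ⟨x, hx⟩ := exists_syl (G := G) (p := 11) h fun e => absurd (e.trans hG) (by decide)
  obtain ⟨ζ, hζ, ⟨D⟩⟩ := exists_data hx
  obtain ⟨m, hm⟩ := h
  have h1 := List.all_eq_true.mp (frcN_eq _ _ ▸ chk11) m (mem_allDivs (by decide) (by decide)
    ((Nat.mul_dvd_mul_iff_left (by decide : 0 < 11)).mp (hm ▸ hG)))
  change (_ || frcN (sub _ (11 * m)) fun Ds => ropts Ds (11 * m) 11 _ _ fun A =>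
    !btOK 11 (qs (11 * m)) A || kill Ds (11 * m) 11 7 A || kill Ds (11 * m) 11 5 A) = true at h1
  have hD := (good_divs (N := 443520) (S := 665) (by decide) (by decide)).sub (by decide) hG
  rw [Bool.or_eq_true, List.contains_iff_mem, frcN_eq, ← hm] at h1
  refine h1.resolve_right fun h2 => ?_
  obtain ⟨A, h3, h4⟩ := ropts_sound' hna hx hζ D rfl hD h2 rfl fun _ _ _ => rfl
  rw [h3.btOK hx hζ (qs_spec _), kill_eq hna hx (by decide) h3 hD,
    kill_eq hna hx (by decide) h3 hD] at h4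
  exact Bool.false_ne_true h4

omit [IsSimpleGroup G] in
theorem even_kk (hx : Syl 23 x) (he : ee x = 22) (hw : Syl 11 w) : 2 ∣ kk 11 w := by
  obtain ⟨g, hg⟩ := isConj_iff.mp (isConj_of_rat hx he 1 (ZMod.unitOfCoprime 5 (by decide)))
  have h1 : ∀ n : ℕ, g ^ n * x * (g ^ n)⁻¹ = x ^ 5 ^ n := fun n => by
    induction n with
    | zero => simp
    | succ n ih =>
      rw [pow_succ', mul_inv_rev, ← mul_assoc, mul_assoc g, mul_assoc g, ih, ← conj_pow,
        pow_succ' 5, pow_mul]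
      exact congrArg (· ^ 5 ^ n)
        (by simpa [ZMod.val_one] using hg : g * x * g⁻¹ = x ^ ZMod.val (5 : ZMod 23))
  have h2 := h1 (orderOf g)
  rw [pow_orderOf_eq_one, one_mul, inv_one, mul_one, ← pow_one x, ← pow_mul, one_mul,
    pow_eq_pow_iff_modEq, hx.ord, ← Nat.div_add_mod (orderOf g) 22, pow_add, pow_mul] at h2
  have h3 : 22 ∣ orderOf g := by
    have := h2.trans ((Nat.ModEq.pow _ (show 5 ^ 22 ≡ 1 [MOD 23] by decide)).mul_right _)
    rw [one_pow, one_mul] at this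
    have h := Nat.mod_lt (orderOf g) (show 0 < 22 by decide)
    refine Nat.dvd_of_mod_eq_zero ?_
    generalize orderOf g % 22 = r at this h
    revert this; revert r; decide
  have h4 := orderOf_pow_orderOf_div (orderOf_pos g).ne' (show 11 ∣ orderOf g by omega)
  have h5 := h3.trans (orderOf_dvd_cC (Commute.self_pow g (orderOf g / 11)))
  rw [cC_of_syl (syl_of_orderOf hw h4), kk_eq (syl_of_orderOf hw h4) hw] at h5
  omega

theorem dead_eq (hna : ∃ a b : G, a * b ≠ b * a) (hs : SC 23 x)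
    (h : (Nat.card G, ee x) ∈ [(425040, 11), (850080, 22), (20401920, 22)]) :
    dead (Nat.card G) (ee x) = false := by
  refine Bool.eq_false_iff.mpr fun h0 => ?_
  have hG : 385 ∣ Nat.card G ∧ Nat.card G ∣ 20401920 ∧ ee x ≠ 1 := by
    simp only [List.mem_cons, Prod.mk.injEq, List.not_mem_nil, or_false] at h
    rcases h with h | h | h <;> rw [h.1, h.2] <;> decide
  have hD := good_divs (N := Nat.card G) (S := 4517) Nat.card_pos
    ((Nat.le_of_dvd (by decide) hG.2.1).trans_lt (by decide))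
  obtain ⟨y, hy⟩ := exists_syl (G := G) (p := 11) (by omega)
    fun e => absurd (e.trans hG.2.1) (by decide)
  obtain ⟨w, hw⟩ := exists_syl (G := G) (p := 5) (by omega)
    fun e => absurd (e.trans hG.2.1) (by decide)
  obtain ⟨u, hu⟩ := exists_syl (G := G) (p := 7) (by omega)
    fun e => absurd (e.trans hG.2.1) (by decide)
  obtain ⟨ζ, hζ, ⟨D⟩⟩ := exists_data hy
  obtain ⟨ξ, hξ, ⟨E⟩⟩ := exists_data hw
  obtain ⟨η, hη, ⟨F⟩⟩ := exists_data hu
  have k : ∀ {r : ℕ} [Fact r.Prime] {z : G}, Syl r z → (kk r z % 23 != 0) = true := fun hz =>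
    bne_iff_ne.mpr fun e => hz.prime.ne_one (Nat.dvd_one.mp (kk_of_sc hs ▸
      dvd_kk_symm hz hs.syl (Nat.dvd_of_mod_eq_zero e)))
  have v := fun χ => (vf_of_sc hs hG.2.2 χ).1
  rw [dead, frcN_eq] at h0
  obtain ⟨A, a1, a2⟩ := ropts_sound' hna hy hζ D rfl hD h0 (by
    rw [k hy, Bool.true_and, Bool.or_eq_true, bne_iff_ne, beq_iff_eq, or_iff_not_imp_left, not_not]
    exact fun e => Nat.mod_eq_zero_of_dvd (even_kk hs.syl e hy)) fun χ _ _ => v χ
  rw [a1.rsum_sc hy hζ hs hG.2.2 (by decide), a1.btOK hy hζ (qs_spec _), a1.selfOK hna hy hw.nsq]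
    at a2
  obtain ⟨B, b1, b2⟩ := ropts_sound' hna hw hξ E rfl hD a2
    (by rw [k hw, a1.e, a1.k, kOK_of hy hw]; rfl) fun χ _ _ => v χ
  rw [b1.rsum_sc hw hξ hs hG.2.2 (by decide), b1.btOK hw hξ (qs_spec _),
    pr_of hna hy hw hξ (by decide) a1 b1] at b2
  obtain ⟨C, c1, c2⟩ := ropts_sound' hna hu hη F rfl hD b2
    (by rw [k hu, a1.e, a1.k, b1.e, b1.k, kOK_of hy hu, kOK_of hw hu]; rfl) fun χ _ _ => v χ
  rw [c1.rsum_sc hu hη hs hG.2.2 (by decide), c1.btOK hu hη (qs_spec _),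
    pr_of hna hy hu hη (by decide) a1 c1, pr_of hna hw hu hη (by decide) b1 c1] at c2
  exact Bool.false_ne_true c2

theorem card23 (hna : ∃ a b : G, a * b ≠ b * a) (hG : Nat.card G ∣ 244823040)
    (h : 23 ∣ Nat.card G) : Nat.card G ∈ [6072, 10626, 17710, 45540, 10200960, 244823040] := by
  obtain ⟨x, hx⟩ := exists_syl (G := G) (p := 23) h fun e => absurd (e.trans hG) (by decide)
  obtain ⟨ζ, hζ, ⟨D⟩⟩ := exists_data hx
  have hs := K23.sc hna hG hx
  have hm := hs.card_eq.trans (mul_assoc _ _ _)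
  have h0 : ee x ∈ Nat.divisors 22 := Nat.mem_divisors.mpr ⟨ee_dvd hx, by decide⟩
  have := ee_ne_one_of_perfect hx (commutator_eq_top hna)
  rw [show Nat.divisors 22 = {1, 2, 11, 22} by decide] at h0
  have h1 := List.all_eq_true.mp (List.all_eq_true.mp ((frcN_eq _ _).symm.trans chk23) _ (mem_allDivs
    (by decide) (by decide) ((Nat.mul_dvd_mul_iff_left (by decide : 0 < 23)).mp (hm ▸ hG)))) (ee x)
    (by simp at h0 ⊢; omega)
  rw [Nat.mul_mod_right, Nat.mul_div_cancel_left _ (ee_pos x),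
    show _ % 23 = 1 from card_sylow_modEq_one 23 G, ← hm] at h1
  change (_ || _ || frcN (sub _ (Nat.card G)) fun Ds => rcheck Ds (Nat.card G) 23 _ (fun A =>
    !btOK 23 (qs (Nat.card G)) A || kill Ds (Nat.card G) 23 11 A) _ _) = true at h1
  have hD := (good_divs (N := 244823040) (S := 15646) (by decide) (by decide)).sub (by decide) hG
  rw [Bool.or_eq_true, Bool.or_eq_true, List.contains_iff_mem, List.contains_iff_mem, frcN_eq,
    ← kk_of_sc hs] at h1
  rcases h1 with (h2 | h2) | h2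
  · exact h2
  · have := dead_eq hna hs h2
    simp only [List.mem_cons, Prod.mk.injEq, List.not_mem_nil, or_false] at h2
    rcases h2 with h2 | h2 | h2 <;> rw [h2.1, h2.2] at this
    exacts [absurd (chkA.1.symm.trans this) nofun, absurd (chkA.2.symm.trans this) nofun,
      absurd (chkB.symm.trans this) nofun]
  · obtain ⟨A, h3, h4⟩ := rcheck_sound' hna hx hζ D rfl hD (fun _ _ _ => rfl) h2
    rw [h3.btOK hx hζ (qs_spec _), kill_eq hna hx (by decide) h3 hD] at h4
    exact absurd h4 Bool.false_ne_true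

end CfsgLib.MathRec.DegS
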