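import Mathlib
import Cfsg.Agent.Lib.MathRec.DegS
import Cfsg.Agent.Lib.ChTab.Inv

/-!
A simple group of order 244823040: the principal block for the prime 5.
-/

set_option autoImplicit false

namespace CfsgLib.MathRec.V24

open Cfsg CfsgLib.Char CfsgLib.Block CfsgLib.DefectOne CfsgLib.DefectOne.B43 CfsgLib.Tuan
  CfsgLib.ChTab Subgroup Finset MulAction T11 T23 DegS

/-- The values of a partner of the rows. -/
noncomputable def hs (W : ℕ → List ℤ) (R : List (ℕ × ℤ)) : ℤ → Bool :=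
  List.rec (fun t => t == 0)
    (fun b _ ih t => ih t || (W b.1).any fun v => frcI (t + b.2 * v) ih) R

/-- The comparison of an option for 5 with the pair `(e, k)` for `q`. -/
noncomputable def half (q e k : ℕ) (B : Opt) : Bool :=
  (B.2.1 % q == 0 || hs (fun d => [(q - 1 : ℤ), 1 - q, e, -e].filter
    (cdrow 244823040 q e k d)) B.2.2 (4 * (q - 1))) && kOK q 5 e k B.2.1

/-- The relations given by 23, 2 and 3. -/
def bs (q : ℕ) (A : Opt) : Bool := rsum q (vf 23 11) A == 0 && btOK q [(2, 10), (3, 3)] A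

/-- Evaluation of the rows. -/
noncomputable def frcR (l : List (ℕ × ℤ)) : (List (ℕ × ℤ) → Bool) → Bool :=
  List.rec (fun k => k []) (fun s _ ih k => frc s.1 fun a => frcI s.2 fun b =>
    ih fun l' => k ((a, b) :: l')) l

/-- The search over a list of pairs `(e, k)`. -/
noncomputable def rr (Ds : List ℕ) (q : ℕ) (EK : List (ℕ × ℕ)) (okk : ℕ → ℕ → Bool)
    (good : Opt → Bool) : Bool :=
  EK.all fun r => !okk r.1 r.2 || rcheck Ds 244823040 q (vok 23 11)
    (fun A => frcR A.2.2 fun R => !bs q (A.1, A.2.1, R) || good (A.1, A.2.1, R)) r.1 r.2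

/-- The pairs for 5. -/
def E5 : List (ℕ × ℕ) :=
  [4, 9, 14, 24, 44, 54, 64, 84, 99, 144, 154, 189, 224, 264, 384, 504, 594, 704, 864, 924, 1344,
  1584, 2079, 2304, 2464, 3024, 3584, 4224, 5544, 8064, 9504, 13824, 14784, 25344, 33264, 39424,
  48384, 88704, 152064, 532224].map (2, ·) ++ [2, 7, 12, 22, 27, 32, 42, 72, 77, 112, 132, 192,
  252, 297, 352, 432, 462, 672, 792, 1152, 1232, 1512, 1792, 2112, 2772, 4032, 4752, 6912, 7392,
  12672, 16632, 19712, 24192, 44352, 76032, 266112].map (4, ·)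

/-- The pairs for 7. -/
def E7 : List (ℕ × ℕ) :=
  [2, 9, 16, 30, 44, 72, 128, 135, 198, 240, 352, 576, 660, 1080, 1584, 1920, 2816, 2970, 4608,
  5280, 8640, 12672, 23760, 42240, 69120, 190080].map (2, ·) ++ [6, 20, 48, 55, 90, 132, 160, 384,
  440, 720, 1056, 1280, 1980, 3072, 3520, 5760, 8448, 15840, 28160, 46080, 126720].map (3, ·) ++
  [3, 10, 24, 45, 66, 80, 192, 220, 360, 528, 640, 990, 1536, 1760, 2880, 4224, 7920, 14080,
  23040, 63360].map (6, ·)

/-- The pairs for 11. -/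
def E11 : List (ℕ × ℕ) :=
  [5, 16, 27, 60, 126, 192, 280, 720, 896, 1512, 2304, 3360, 8640, 10752, 40320, 483840].map (2,
  ·) ++ [2, 24, 112, 189, 288, 1344, 3456, 16128, 193536].map (5, ·) ++ [1, 12, 56, 144, 672,
  1728, 8064, 96768].map (10, ·)

/-- The remaining options for 5. -/
def F5 : List Opt := [2, 12, 32, 192].map (fun k => (4, k, [(161, 4), (414, -4), (5544, -4),
  (5796, 4)])) ++ [12, 192].map fun k => (4, k, [(1771, 4), (2024, -4), (5544, -4), (5796, 4)])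

/-- The exceptional characters for 23 have the same degree. -/
def exc (B : Opt) : Bool := B.2.2.any (·.1 % 23 == 11) && B.2.2.any (·.1 % 23 == 12)

theorem chkE : [(5, E5), (7, E7), (11, E11)].all (fun c => ropts (divs 244823040 15646) 244823040
    c.1 (fun e k => !(k % 23 == 0 || c.2.contains (e, k))) (fun _ _ _ => true) fun _ => false) =
    true := by decide +kernel

/-- The search for 5. -/
noncomputable def c5 (P : ℕ → Bool) : Bool := frcN (divs 244823040 15646) fun Ds =>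
  rr Ds 5 E5 (fun _ => P) fun B =>
    exc B || memL F5 B || E7.all (fun r => !half 7 r.1 r.2 B) ||
    (!([1, 12, 56].any (half 11 10 · B)) && rr Ds 11 E11 (half 11 · · B) fun A =>
      !(pr 11 5 A B && selfOK 11 5 A)) ||
    rr Ds 7 E7 (half 7 · · B) fun C => !pr 5 7 B C ||
      rr Ds 11 E11 (fun e k => half 11 e k B && kOK 11 7 e k C.2.1) fun A =>
        !(pr 11 5 A B && pr 11 7 A C)

theorem chk5a : c5 (Nat.blt · 7) = true := by decide +kernel

theorem chk5b : c5 (fun k => Nat.ble 7 k && Nat.blt k 22) = true := by decide +kernel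

theorem chk5c : c5 (fun k => Nat.ble 22 k && Nat.blt k 80) = true := by decide +kernel

theorem chk5d : c5 (Nat.ble 80) = true := by decide +kernel

theorem chk11 : frcN (divs 244823040 15646) (fun Ds => rr Ds 11 E11 (fun e k =>
    !([(10, 1), (10, 12), (5, 2), (5, 24)].contains (e, k)) && F5.any (half 11 e k)) fun A =>
      F5.all (!pr 11 5 A ·)) = true := by decide +kernel

theorem frcR_eq (l : List (ℕ × ℤ)) (k : List (ℕ × ℤ) → Bool) : frcR l k = k l := by
  induction l generalizing k with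
  | nil => rfl
  | cons s l ih => exact (frcI_eq s.2 fun b => frcR l fun l' => k ((s.1, b) :: l')).trans (ih _)

theorem hs_of_mt {W : ℕ → List ℤ} {fa fb : ℕ → Bool} (R : List (ℕ × ℤ)) : ∀ (S : List (ℕ × ℤ))
    (t : ℤ), (∀ a ∈ S, a.2 ∈ W a.1) → mt fa fb R S t = true → hs W R t = true := by
  induction R with
  | nil => exact fun S t _ h => (Bool.and_eq_true_iff.mp h).1
  | cons b R ih =>
    intro S t h1 h
    change (_ && mt fa fb R S t || S.any fun a => a.1 == b.1 &&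
      mt fa fb R (@List.erase _ instBEqOfDecidableEq S a) (t + b.2 * a.2)) = true at h
    change (hs W R t || (W b.1).any fun v => frcI (t + b.2 * v) (hs W R)) = true
    simp only [Bool.or_eq_true, Bool.and_eq_true, List.any_eq_true, beq_iff_eq, frcI_eq] at h ⊢
    exact h.imp (fun h => ih S t h1 h.2) fun ⟨a, h2, h3, h4⟩ =>
      ⟨a.2, h3 ▸ h1 a h2, ih _ _ (fun c hc => h1 c (@List.mem_of_mem_erase _ (_) _ _ _ hc)) h4⟩

variable {G : Type*} [Group G] [Finite G] [IsSimpleGroup G] {x w u y : G} {ξ η : ℂ} {q : ℕ}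
  [hq : Fact q.Prime]

theorem hna (hG : Nat.card G = 244823040) : ∃ a b : G, a * b ≠ b * a :=
  nonab (by rw [hG]; norm_num)

theorem loc23 (hG : Nat.card G = 244823040) (hx : Syl 23 x) : SC 23 x ∧ ee x = 11 := by
  have hs := K23.sc (hna hG) (hG ▸ dvd_rfl) hx
  have h1 := hs.card_eq
  have h2 : ee x ∈ Nat.divisors 22 := Nat.mem_divisors.mpr ⟨ee_dvd hx, by decide⟩
  have h3 : Nat.card (Sylow 23 G) % 23 = 1 := card_sylow_modEq_one 23 G
  rw [show Nat.divisors 22 = {1, 2, 11, 22} by decide] at h2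
  simp only [mem_insert, mem_singleton] at h2
  refine ⟨hs, ?_⟩
  rcases h2 with h | h | h | h <;> rw [h] at h1 ⊢ <;> omega

omit [IsSimpleGroup G] in
theorem ex (hG : Nat.card G = 244823040) (q : ℕ) [Fact q.Prime]
    (h : q ∈ [5, 7, 11, 23] := by decide) : ∃ y : G, Syl q y := by
  simp only [List.mem_cons, List.not_mem_nil, or_false] at h
  refine exists_syl ?_ ?_ <;> rw [hG] <;> rcases h with h | h | h | h <;> rw [h] <;> decide

theorem half_of (hG : Nat.card G = 244823040) (hy : Syl q y) (h5 : 5 ≠ q) (hu : Syl 5 u)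
    {E : PrinData 5 u ξ} {B : Opt} (hB : IsOpt E B) : half q (ee y) (kk q y) B = true := by
  obtain ⟨η, hη, ⟨D⟩⟩ := exists_data hy
  obtain ⟨l, hl⟩ := Quotient.exists_rep ((Bk D).val.map fun χ => (dg χ, vv q y χ))
  have hA : IsOpt D (ee y, kk q y, l) := ⟨rfl, rfl, hl⟩
  have h := pairOK_of (hna hG) hu hy hη h5 hB hA
  rw [half, hB.k, kOK_of hy hu, Bool.and_true, Bool.or_eq_true, beq_iff_eq, or_iff_not_imp_left]
  intro h1
  rw [pairOK, hB.k, if_neg h1, Bool.and_eq_true] at h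
  refine hs_of_mt _ _ _ (fun a ha => ?_) h.2
  obtain ⟨χ, hχ, rfl⟩ := hA.exists ha
  have := hG ▸ cdrow_of D hy hη (mem_Bk.mp hχ).2
  refine List.mem_filter.mpr ⟨?_, this⟩
  simp only [cdrow, scrow', Bool.or_eq_true, Bool.and_eq_true, beq_iff_eq, bne_iff_ne,
    List.mem_cons] at this ⊢
  tauto

theorem k23 (hG : Nat.card G = 244823040) (hy : Syl q y) : kk q y % 23 ≠ 0 := fun e => by
  obtain ⟨x, hx⟩ := ex hG 23
  exact hy.prime.ne_one (Nat.dvd_one.mp (kk_of_sc (loc23 hG hx).1 ▸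
    dvd_kk_symm hy hx (Nat.dvd_of_mod_eq_zero e)))

theorem mem_E (hG : Nat.card G = 244823040) (hy : Syl q y) {EK : List (ℕ × ℕ)}
    (h : (q, EK) ∈ [(5, E5), (7, E7), (11, E11)]) : (ee y, kk q y) ∈ EK := by
  obtain ⟨η, hη, ⟨D⟩⟩ := exists_data hy
  by_contra hc
  obtain ⟨_, -, h1⟩ := ropts_sound (hna hG) hy hη D hG (by decide) rfl
    (List.all_eq_true.mp chkE _ h) (by simpa [k23 hG hy] using hc) fun _ _ _ => rfl
  exact Bool.false_ne_true h1

theorem bs_of (hG : Nat.card G = 244823040) (hy : Syl q y) (hη : IsPrimitiveRoot η q)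
    {D : PrinData q y η} (h : q ≠ 23) {A : Opt} (hA : IsOpt D A) : bs q A = true := by
  obtain ⟨x, hx⟩ := ex hG 23
  obtain ⟨h1, h2⟩ := loc23 hG hx
  rw [bs, ← h2, hA.rsum_sc hy hη h1 (by omega) h, hA.btOK hy hη (by rw [hG]; decide)]; rfl

theorem vok23 (hG : Nat.card G = 244823040) (χ : IrrCharacter G) : vok 23 11 (dg χ) = true := by
  obtain ⟨x, hx⟩ := ex hG 23
  obtain ⟨h1, h2⟩ := loc23 hG hx
  exact h2 ▸ (vf_of_sc h1 (by omega) χ).1

theorem rr_sound (hG : Nat.card G = 244823040) (hy : Syl q y) (hη : IsPrimitiveRoot η q)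
    (D : PrinData q y η) {EK : List (ℕ × ℕ)} (hE : (q, EK) ∈ [(5, E5), (7, E7), (11, E11)])
    {okk : ℕ → ℕ → Bool} {good : Opt → Bool}
    (h : rr (divs 244823040 15646) q EK okk good = true) (hk : okk (ee y) (kk q y) = true) :
    ∃ A, IsOpt D A ∧ good A = true := by
  have h1 := List.all_eq_true.mp h _ (mem_E hG hy hE)
  rw [hk, Bool.not_true, Bool.false_or] at h1
  obtain ⟨A, a1, a2⟩ := rcheck_sound (hna hG) hy hη D hG (by decide) (fun χ _ _ => vok23 hG χ) h1
  rw [frcR_eq, bs_of hG hy hη (by rintro rfl; simp at hE) a1] at a2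
  exact ⟨A, a1, a2⟩

theorem exc_eq (hG : Nat.card G = 244823040) {E : PrinData q y η} {B : Opt} (hB : IsOpt E B) :
    exc B = false := by
  obtain ⟨x, hx⟩ := ex hG 23
  obtain ⟨ζ, hζ, ⟨D⟩⟩ := exists_data hx
  have key : ∀ χ, dg χ % 23 = 11 ∨ dg χ % 23 = 12 → dg χ = z0 D := fun χ h => by
    rcases bz_of_sc D (loc23 hG hx).1 χ with h1 | h1 | h1
    · have : (dg χ : ℤ) ≡ _ [ZMOD _] := D.X_deg χ h1
      rcases D.δ_sign χ h1 with c | c <;> rw [c, Int.ModEq] at this <;> omega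
    · exact dg_of_mem_Ys D h1
    · omega
  refine Bool.eq_false_iff.mpr fun h => ?_
  simp only [exc, Bool.and_eq_true, List.any_eq_true, beq_iff_eq] at h
  obtain ⟨⟨a, a1, a2⟩, b, b1, b2⟩ := h
  obtain ⟨χ, -, rfl⟩ := hB.exists a1
  obtain ⟨ψ, -, rfl⟩ := hB.exists b1
  rw [(key ψ (Or.inr b2)).trans (key χ (Or.inl a2)).symm, a2] at b2
  omega

theorem opt5 (hG : Nat.card G = 244823040) (hu : Syl 5 u) (hξ : IsPrimitiveRoot ξ 5)
    (E : PrinData 5 u ξ) : ∃ B ∈ F5, IsOpt E B := by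
  obtain ⟨y, hy⟩ := ex hG 7
  obtain ⟨w, hw⟩ := ex hG 11
  obtain ⟨η, hη, ⟨C⟩⟩ := exists_data hy
  obtain ⟨ζ, hζ, ⟨D⟩⟩ := exists_data hw
  obtain ⟨P, h1, h2⟩ : ∃ P, c5 P = true ∧ P (kk 5 u) = true := by
    by_contra! h
    have a := h _ chk5a
    have b := h _ chk5b
    have c := h _ chk5c
    have d := h _ chk5d
    simp only [ne_eq, Bool.and_eq_true, Nat.blt_eq, Nat.ble_eq] at a b c d
    omega
  rw [c5, frcN_eq] at h1
  obtain ⟨B, b1, b2⟩ := rr_sound hG hu hξ E (by simp) h1 h2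
  have n := hna hG
  have h7 := half_of hG hy (by decide) hu b1
  have h11 := half_of hG hw (by decide) hu b1
  simp only [exc_eq hG b1, Bool.false_or, Bool.or_eq_true, Bool.and_eq_true] at b2
  rcases b2 with ((h | h) | h) | h
  · exact b1.memL h
  · simpa [h7] using List.all_eq_true.mp h _ (mem_E hG hy (by simp))
  · obtain ⟨A, a1, a2⟩ := rr_sound hG hw hζ D (by simp) h.2 h11
    simp [pr_of n hw hu hξ (by decide) a1 b1, a1.selfOK n hw hu.nsq] at a2
  · obtain ⟨A, a1, a2⟩ := rr_sound hG hy hη C (by simp) h h7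
    rw [pr_of n hu hy hη (by decide) b1 a1, Bool.not_true, Bool.false_or] at a2
    obtain ⟨A', c1, c2⟩ := rr_sound hG hw hζ D (by simp) a2 (by rw [h11, a1.k, kOK_of hw hy]; rfl)
    simp [pr_of n hw hu hξ (by decide) c1 b1, pr_of n hw hy hη (by decide) c1 a1] at c2

theorem ek11 (hG : Nat.card G = 244823040) (hw : Syl 11 w) :
    (ee w, kk 11 w) ∈ [(10, 1), (10, 12), (5, 2), (5, 24)] := by
  obtain ⟨u, hu⟩ := ex hG 5
  obtain ⟨ξ, hξ, ⟨E⟩⟩ := exists_data hu
  obtain ⟨ζ, hζ, ⟨D⟩⟩ := exists_data hw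
  obtain ⟨B, b1, b2⟩ := opt5 hG hu hξ E
  by_contra hc
  obtain ⟨A, a1, a2⟩ := rr_sound hG hw hζ D (by simp) (frcN_eq _ _ ▸ chk11) (by
    rw [Bool.and_eq_true, List.any_eq_true]
    exact ⟨by rwa [Bool.not_eq_true', Bool.eq_false_iff, ne_eq, List.contains_iff_mem], B, b1, half_of hG hw (by decide) hu b2⟩)
  simpa [pr_of (hna hG) hw hu hξ (by decide) a1 b2] using List.all_eq_true.mp a2 B b1

end CfsgLib.MathRec.V24
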