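import Mathlib
import Cfsg.Agent.Lib.MathRec.V24a

/-!
A simple group of order 244823040: the local data at 23, 11, 5 and 7.
-/

set_option autoImplicit false

namespace CfsgLib.MathRec.V24

open Cfsg CfsgLib.Char CfsgLib.Block CfsgLib.DefectOne CfsgLib.DefectOne.B43 CfsgLib.Tuan
  CfsgLib.ChTab Subgroup Finset MulAction T11 T23 DegS

theorem chkI : (divs 1320 1320).all (fun m => m % 110 != 0 || (allDivs 96768 311).all fun s =>
    s % 11 != 1 || frc (s * m) fun c => 10644480 % c != 0 || frc c.sqrt fun T =>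
      (vals 244823040 c T 5544).all fun a => (5544 - a) % 55 != 0 ||
        (vals 244823040 c T 5796).all fun b => (5796 - b) % 55 != 0 ||
          decide (2 * c < (1 - a + b) ^ 2 + 2 * (1 + a * a + b * b)) ||
          [45, 160, 540, 1920, 3840].all fun d => (vals 244823040 c T d).all fun v =>
            (d - v) % 11 != 0) = true := by decide +kernel

theorem chk3 : (divs 244823040 15646).all (fun d => Nat.blt d 22 ||
    [45, 160, 540, 1920, 3840].contains d || [(10, 12), (5, 2), (5, 24)].all fun r =>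
      [10, -10, 5, -5].all fun v => !(cdrow 244823040 11 r.1 r.2 d v && vok 23 11 d &&
        decide (vf 23 11 d * v < 0))) = true := by decide +kernel

theorem chk7 : frcN (divs 244823040 15646) (fun Ds => [12, 192].all fun c =>
    rr Ds 7 E7 (fun e k => k % 11 != 0 &&
      !([(3, 6), (3, 48), (3, 384), (6, 3), (6, 24), (6, 192)].contains (e, k)) &&
      half 7 e k (4, c, [(1771, 4), (2024, -4), (5544, -4), (5796, 4)])) fun C =>
        !(C.2.2.all (vok 11 10 ·.1) && rsum 7 (vf 11 10) C == 0 &&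
          pr 5 7 (4, c, [(1771, 4), (2024, -4), (5544, -4), (5796, 4)]) C)) = true := by
  decide +kernel

section

variable {G : Type*} [Group G] [Finite G] {p : ℕ} [hp : Fact p.Prime] {x t : G} {ζ : ℂ}

theorem bz_cong {D : PrinData p x ζ} (hs : Syl p x) {χ : IrrCharacter G} (hχ : BZ D χ)
    (h : Ratl t) (ht : t ∈ hs.KK) : (p : ℤ) ∣ dg χ - cv t χ := by
  obtain ⟨M, hM⟩ := exists_isPModular' hp.out
  have h0 : ∃ k, orderOf x = p ^ k := ⟨1, by rw [hs.ord, pow_one]⟩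
  have h1 := li_char_mul_sub hM (irr_isCharacter χ) h0 (mem_CC.mp ht.1)
  have h2 := li_char_mul_sub hM (irr_isCharacter χ) h0 (Commute.one_right x)
  have h3 := hχ.val hs (mem_CC.mp ht.1) ht.2 one_pos hp.out.one_lt
  rw [pow_one] at h3
  rw [mul_one] at h2
  rw [← li_intCast_iff hM, Int.cast_sub, Int.cast_natCast, dg_cast, cv_cast h]
  exact li_sub_trans hM (li_sub_comm h2) (h3 ▸ h1)

theorem col {D : PrinData p x ζ} {A : Opt} (h : IsOpt D A) (hs : Syl p x)
    (hζ : IsPrimitiveRoot ζ p) (hr : Ratl t) (ht : ¬ p ∣ orderOf t) :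
    ∃ l : List (IrrCharacter G), (∀ χ, χ ∈ l ↔ χ ∈ Bk D) ∧
      l.map (fun χ => (dg χ, vv p x χ)) = A.2.2 ∧
      p - 1 + (l.map fun χ => vv p x χ * cv t χ).sum = 0 ∧
      1 + (l.map fun χ => cv t χ * cv t χ).sum ≤ cC t := by
  classical
  obtain ⟨l, h1, h2⟩ := exists_list_map h.rows
  have key : ∀ f : IrrCharacter G → ℤ, ∑ χ ∈ D.X ∪ Ys D, f χ = f (irrOne G) + (l.map f).sum :=
    fun f => by
      rw [← add_sum_erase _ _ (mem_union_left _ D.one_mem), ← Multiset.sum_coe,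
        ← Multiset.map_coe, h1]; rfl
  refine ⟨l, fun χ => by rw [← Multiset.mem_coe, h1]; rfl, h2, ?_, ?_⟩
  · have h3 := sum_b0_reg D hs hζ ht
    have h4 := key fun χ => vv p x χ * cv t χ
    simp only [← cv_cast hr] at h3
    rw [vv_one hs, cv_irrOne, mul_one] at h4
    rw [← h4]
    exact_mod_cast h3
  · have h4 := key fun χ => cv t χ * cv t χ
    rw [cv_irrOne, mul_one] at h4
    rw [← h4, ← sum_cv_sq hr]
    exact sum_le_sum_of_subset_of_nonneg (subset_univ _) fun _ _ _ => mul_self_nonneg _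

theorem card_sub (hs : Syl p x) {H : Subgroup G} (hx : x ∈ H) : ∃ s m, s % p = 1 ∧
    Nat.card H = s * m ∧ m ∣ Nat.card (NN x) ∧ ∀ g ∈ H, g ∈ NN x → orderOf g ∣ m := by
  refine ⟨_, Nat.card ((NN x).subgroupOf H), Eq.trans (card_sylow_modEq_one p H)
    (Nat.mod_eq_of_lt hp.out.one_lt), ?_, card_comap_dvd_of_injective _ _ H.subtype_injective,
    fun g h1 h2 => orderOf_mk g h1 ▸ Subgroup.orderOf_dvd_natCard _ (mem_subgroupOf.mpr h2)⟩
  rw [← card_sylow_mul (hs.subgroup hx), NN, NN, subgroupOf_normalizer_eq (zpowers_le.mpr hx)]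
  rw [eq_of_le_of_card_ge (H := zpowers (⟨x, hx⟩ : H)) (K := (zpowers x).subgroupOf H)
    (zpowers_le.mpr (mem_zpowers x)) (by
      rw [Nat.card_congr (subgroupOfEquivOfLe (zpowers_le.mpr hx)).toEquiv, hs.card_zpowers,
        (hs.subgroup hx).card_zpowers])]

end

variable {G : Type*} [Group G] [Finite G] [IsSimpleGroup G] {x w u y : G}

theorem k11 (hG : Nat.card G = 244823040) (hw : Syl 11 w) : kk 11 w = 1 := by
  by_contra hk
  have n := hna hG
  have h0 : (ee w, kk 11 w) ∈ [(10, 12), (5, 2), (5, 24)] := by simpa [hk] using ek11 hG hw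
  have h1 := h0
  simp only [List.mem_cons, Prod.mk.injEq, List.not_mem_nil, or_false] at h1
  obtain ⟨u, hu, a1, a2⟩ := exists_syl_mem_NN (q := 5) hw (by omega) (by rw [hG]; decide)
  obtain ⟨t, t1, t2, t3⟩ := exists_commute hw Nat.prime_two (by omega)
  have t4 : t ∈ hw.KK := ⟨mem_CC.mpr t2, t3⟩
  have t5 := KK_le hw hu a1 a2 (m := 24) (by
    rcases h1 with h | h | h <;> rw [h.2] <;> decide) (by decide +kernel) t4
  have hr := ratl_of_sq (Invol.mul_self_of_orderOf_two t1)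
  obtain ⟨x, hx⟩ := ex hG 23
  obtain ⟨ζ, hζ, ⟨D⟩⟩ := exists_data hw
  obtain ⟨ξ, hξ, ⟨E⟩⟩ := exists_data hu
  obtain ⟨η, hη, ⟨C⟩⟩ := exists_data hx
  obtain ⟨x1, x2⟩ := loc23 hG hx
  obtain ⟨s, m, s1, s2, s3, s4⟩ := card_sub hw (H := CC t) (mem_CC.mpr t2.symm)
  have m1 := hw.ord ▸ s4 w (mem_CC.mpr t2.symm) (CC_le_NN w (self_mem_CC w))
  have m2 := hu.ord ▸ s4 u (mem_CC.mpr (mem_CC.mp t5.1).symm) a1
  have m3 := t1 ▸ s4 t (self_mem_CC t) (CC_le_NN w t4.1)
  have m4 : m ∣ 1320 := s3.trans (by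
    rw [card_NN, card_CC_eq hw]; rcases h1 with h | h | h <;> rw [h.1, h.2] <;> norm_num)
  have m5 : s * m ∣ 10644480 := Nat.Coprime.dvd_of_dvd_mul_left (m := 23) (s2 ▸
    ((Nat.Prime.coprime_iff_not_dvd (by norm_num)).mpr (not_dvd_cC x1
      (Invol.ne_one_of_orderOf_two t1) (by omega))).symm)
    (s2 ▸ (card_subgroup_dvd_card _).trans hG.dvd)
  have c1 := List.all_eq_true.mp chkI m (mem_divs (Nat.pos_of_dvd_of_pos m4 (by decide))
    (Nat.le_of_dvd (by decide) m4) m4)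
  rw [show m % 110 = 0 by omega] at c1
  have c2 := List.all_eq_true.mp c1 s (mem_allDivs (by decide) (by decide)
    ((Nat.mul_dvd_mul_iff_right (by decide : 0 < 110)).mp
      ((mul_dvd_mul_left s (by omega)).trans m5)))
  have hv : ∀ χ, χ ≠ irrOne G → cv t χ ∈ vals 244823040 (s * m) (s * m).sqrt (dg χ) :=
    fun χ h => hG ▸ s2 ▸ mem_vals n t1 (Nat.lt_succ_sqrt' _).le h
  obtain ⟨B, b1, b2⟩ := opt5 hG hu hξ E
  obtain ⟨a, b, b3, b4⟩ : ∃ a b, B.2.2 = [(a, 4), (b, -4), (5544, -4), (5796, 4)] ∧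
      a % 11 % 7 = 0 ∧ b % 11 % 7 = 0 := by
    simp only [F5, List.map, List.mem_append, List.mem_cons, List.not_mem_nil, or_false] at b1
    rcases b1 with (h | h | h | h) | h | h <;> subst h <;> exact ⟨_, _, rfl, rfl, rfl⟩
  obtain ⟨l, l1, l2, l3, l4⟩ := col b2 hu hξ hr t5.2
  obtain ⟨χ, d1, d2, d3, -⟩ := exists_neg D E hw hu hξ a2
  obtain ⟨ψ, e1, e2, e3, e4⟩ := exists_neg D C hw hx hη (by rw [card_CC_eq hw]; omega)
  have d4 := cdrow_of D hw hζ d2
  have d5 := (l1 χ).mpr (mem_Bk.mpr ⟨d1, d3⟩)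
  have d6 := not_dvd_of_b0 D hw hζ d2
  have e5 := hG ▸ cdrow_of D hw hζ e2
  rw [b3] at l2
  simp only [List.map_eq_cons_iff, List.map_eq_nil_iff, Prod.mk.injEq] at l2
  obtain ⟨χ1, _, rfl, f1, χ2, _, rfl, f2, χ3, _, rfl, f3, χ4, _, rfl, f4, rfl⟩ := l2
  obtain rfl : χ = χ4 := by
    simp only [cdrow, scrow', Bool.and_eq_true, Bool.or_eq_true, beq_iff_eq] at d4
    simp only [List.mem_cons, List.not_mem_nil, or_false] at d5
    rcases d5 with rfl | rfl | rfl | rfl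
    exacts [by omega, by omega, by omega, rfl]
  have g1 := mem_Bk.mp ((l1 χ3).mp (by simp))
  have g2 := bz_cong (D := E) hu (or_assoc.mp (Or.inl g1.2)) hr t5
  have g3 := bz_cong (D := D) hw (χ := χ3) (Or.inr (Or.inr (by rw [f3.1]; decide))) hr t4
  have g4 := bz_cong (D := E) hu (or_assoc.mp (Or.inl d3)) hr t5
  have g5 := bz_cong (D := D) hw (or_assoc.mp (Or.inl d2)) hr t4
  have g6 := bz_cong (D := D) hw (or_assoc.mp (Or.inl e2)) hr t4
  have e6 := List.all_eq_true.mp chk3 _ (mem_divs_dg hG (by decide) ψ)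
  have e7 := BZ.two_mul_le n (D := D) hw (by rw [card_CC_eq hw]; omega)
    (or_assoc.mp (Or.inl e2)) e1
  rw [(vf_of_sc x1 (by omega) ψ).2, x2] at e4
  simp only [Bool.or_eq_true, Nat.blt_eq, List.contains_iff_mem, List.all_eq_true] at e6
  replace e6 := (e6.resolve_right fun h => by
    simpa [e5, e4, vok23 hG] using h _ h0 (vv 11 w ψ) (by
      simp only [cdrow, scrow', Bool.and_eq_true, Bool.or_eq_true, beq_iff_eq, bne_iff_ne] at e5
      simp only [List.mem_cons]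
      omega)).resolve_left (by omega)
  rw [s1] at c2
  change (10644480 % (s * m) != 0 || List.all _ _) = true at c2
  simp only [Nat.mod_eq_zero_of_dvd m5, bne_self_eq_false, Bool.false_or, List.all_eq_true,
    Bool.or_eq_true, bne_iff_ne, decide_eq_true_eq] at c2
  simp only [List.map, List.sum_cons, List.sum_nil, f1, f2, f3, f4, cC, s2] at l3 l4 g2 g3 g4 g5
  rcases (c2 _ (f3.1 ▸ hv χ3 g1.1)).resolve_left (by omega) _ (f4.1 ▸ hv χ d1) with (h | h) | h
  · omega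
  · rw [show 1 - cv t χ3 + cv t χ = cv t χ2 - cv t χ1 by omega] at h
    linarith [sq_nonneg (cv t χ1 + cv t χ2)]
  · exact h _ e6 _ (hv ψ e1) (by omega)

theorem loc11 (hG : Nat.card G = 244823040) (hw : Syl 11 w) : SC 11 w ∧ ee w = 10 :=
  ⟨sc_of_kk hw (k11 hG hw), by simpa [k11 hG hw] using ek11 hG hw⟩

theorem loc5 (hG : Nat.card G = 244823040) (hu : Syl 5 u) {ξ : ℂ} (hξ : IsPrimitiveRoot ξ 5)
    (E : PrinData 5 u ξ) : ee u = 4 ∧ (kk 5 u = 12 ∨ kk 5 u = 192) ∧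
      IsOpt E (4, kk 5 u, [(1771, 4), (2024, -4), (5544, -4), (5796, 4)]) := by
  obtain ⟨w, hw⟩ := ex hG 11
  obtain ⟨h1, h2⟩ := loc11 hG hw
  obtain ⟨B, b1, b2⟩ := opt5 hG hu hξ E
  rcases List.mem_append.mp b1 with h | h <;> obtain ⟨k, h3, rfl⟩ := List.mem_map.mp h
  · obtain ⟨χ, -, h4⟩ := b2.exists List.mem_cons_self
    have := (vf_of_sc h1 (by omega) χ).1
    rw [h2, (Prod.mk.inj h4).1] at this
    exact absurd this (by decide)
  · obtain rfl : k = kk 5 u := b2.k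
    exact ⟨b2.e.symm, by simpa using h3, b2⟩

theorem loc7 (hG : Nat.card G = 244823040) (hy : Syl 7 y) :
    (ee y, kk 7 y) ∈ [(3, 6), (3, 48), (3, 384), (6, 3), (6, 24), (6, 192)] := by
  obtain ⟨w, hw⟩ := ex hG 11
  obtain ⟨u, hu⟩ := ex hG 5
  obtain ⟨ξ, hξ, ⟨E⟩⟩ := exists_data hu
  obtain ⟨η, hη, ⟨C⟩⟩ := exists_data hy
  obtain ⟨h1, h2⟩ := loc11 hG hw
  obtain ⟨-, h3, h4⟩ := loc5 hG hu hξ E
  by_contra hc
  obtain ⟨A, a1, a2⟩ := rr_sound hG hy hη C (by simp) (List.all_eq_true.mp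
    ((frcN_eq _ _).symm.trans chk7) (kk 5 u) (by simpa using h3)) (by
      rw [half_of hG hy (by decide) hu h4, Bool.and_true, Bool.and_eq_true, bne_iff_ne,
        Bool.not_eq_true', Bool.eq_false_iff, ne_eq, ne_eq, List.contains_iff_mem]
      exact ⟨fun e => by simpa [kk_of_sc h1] using dvd_kk_symm hy hw (Nat.dvd_of_mod_eq_zero e), hc⟩)
  rw [pr_of (hna hG) hu hy hη (by decide) h4 a1, ← h2, a1.rsum_sc hy hη h1 (by omega) (by decide),
    List.all_eq_true.mpr fun r hr => by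
      obtain ⟨χ, -, rfl⟩ := a1.exists hr
      exact (vf_of_sc h1 (by omega) χ).1] at a2
  exact Bool.false_ne_true a2

end CfsgLib.MathRec.V24
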