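import Mathlib
import Cfsg.Agent.Lib.MathRec.V24Loc

/-!
A simple group of order 244823040 has an irreducible character of degree 1771.
-/

set_option autoImplicit false

namespace CfsgLib.MathRec

open Cfsg CfsgLib.Tuan

theorem deg24 {G : Type*} [Group G] [Finite G] [IsSimpleGroup G] (h : Nat.card G = 244823040) :
    ∃ χ : IrrCharacter G, dg χ = 1771 := by
  haveI : Fact (Nat.Prime 5) := ⟨by norm_num⟩
  obtain ⟨u, hu⟩ := V24.ex h 5
  obtain ⟨ξ, hξ, ⟨E⟩⟩ := exists_data hu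
  obtain ⟨χ, -, h1⟩ := (V24.loc5 h hu hξ E).2.2.exists List.mem_cons_self
  exact ⟨χ, (Prod.mk.inj h1).1⟩

end CfsgLib.MathRec
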