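import Mathlib
import Cfsg.Agent.Lib.MathRec.DegS
import Cfsg.Agent.Lib.ChDeg.Ito
import Cfsg.Agent.Lib.Schur.Hopf
import Cfsg.Agent.Lib.SmallRec.Deg

/-!
The normal closure of a Sylow subgroup of prime order which centralizes every subgroup of
coprime order that it normalizes.
-/

set_option autoImplicit false

namespace CfsgLib.MathRec.DegG

open Cfsg CfsgLib.Char CfsgLib.DefectOne CfsgLib.Tuan CfsgLib.ChTab CfsgLib.ChDeg Subgroup

variable {G : Type*} [Group G] [Finite G]

/-- `L` is quasisimple and `p` divides the order of its simple quotient. -/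
structure QS (p : ℕ) (L : Type*) [Group L] : Prop where
  simple : IsSimpleGroup (L ⧸ center L)
  hna : ∃ a b : L ⧸ center L, a * b ≠ b * a
  perfect : commutator L = ⊤
  dvd : p ∣ Nat.card (L ⧸ center L)

theorem core {p m : ℕ} [hp : Fact p.Prime] (hG : Nat.card G ∣ p * m) (hm : ¬ p ∣ m)
    (hq : ppOK m p = true) (hv : ∃ χ : IrrCharacter G, p ∣ dg χ) :
    ∃ L : Subgroup G, L.Normal ∧ QS p L := by
  obtain ⟨χ, hχ⟩ := hv
  have h2 : ¬ p ^ 2 ∣ Nat.card G := fun e =>
    hm ((Nat.mul_dvd_mul_iff_left hp.out.pos).mp (sq p ▸ e.trans hG))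
  obtain ⟨x, hx⟩ := exists_syl (G := G) (hχ.trans (SmallRec.dg_dvd χ)) h2
  let L := normalClosure {x}
  have h3 : p ∣ Nat.card L := hx.ord ▸ orderOf_dvd_natCard _ (subset_normalClosure rfl)
  have k : ∀ H : Subgroup L, (∀ y : L, orderOf y = p → y ∈ H) → H = ⊤ := fun H h => by
    refine map_subtype_inj.mp (le_antisymm (map_mono le_top) ?_)
    rw [← MonoidHom.range_eq_map, range_subtype]
    refine (closure_le _).mpr fun y hy => ⟨⟨y, subset_closure hy⟩, h _ ?_, rfl⟩
    obtain ⟨_, rfl, g, hg⟩ := Group.mem_conjugatesOfSet_iff.mp hy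
    rw [← orderOf_coe, ← hx.ord]
    exact (SemiconjBy.orderOf_eq _ hg).symm
  have h4 : ∀ R : Subgroup L, R.Normal → p ∣ Nat.card R → R = ⊤ := fun R _ h => k R fun y hy =>
    zpowers_le.mpr (R.pow_index_mem y) (mem_zpowers_pow_iff.mpr (hy ▸ ((Nat.Prime.coprime_iff_not_dvd
      hp.out).mpr fun e => h2 (((sq p).dvd.trans (mul_dvd_mul h e)).trans
        (R.card_mul_index.dvd.trans (card_subgroup_dvd_card L)))).symm))
  have h5 : ∀ R : Subgroup L, R.Normal → R = ⊤ ∨ R ≤ center L := fun R hR =>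
    (em _).imp (h4 R hR) fun h r hr => mem_center_iff.mpr fun y =>
      mem_centralizer_singleton_iff.mp ((k (CC r) fun y hy => mem_centralizer_singleton_iff.mpr
        (mem_centralizer_singleton_iff.mp (le_cent_of_norm hy (le_normalizer_of_normal (mem_top y))
          h ((Nat.Coprime.dvd_of_dvd_mul_left ((Nat.Prime.coprime_iff_not_dvd hp.out).mpr h).symm
            (((card_subgroup_dvd_card R).trans (card_subgroup_dvd_card L)).trans hG))) hq
              hr)).symm).ge (mem_top y))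
  have h6 : center L ≠ ⊤ := fun e => h2 (((sq p).dvd.trans (mul_dvd_mul h3 (hχ.trans
    (deg_dvd_index_of_comm χ.2 L fun a ha b hb => congrArg Subtype.val
      (mem_center_iff.mp (e.ge (mem_top ⟨b, hb⟩)) ⟨a, ha⟩))))).trans L.card_mul_index.dvd)
  haveI := QuotientGroup.nontrivial_iff.mpr h6
  haveI h7 : IsSimpleGroup (L ⧸ center L) := ⟨fun N hN => by
    rw [← map_comap_eq_self_of_surjective (QuotientGroup.mk'_surjective _) N]
    refine (h5 _ (hN.comap (QuotientGroup.mk' _))).symm.imp (fun e => ?_) fun e => ?_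
    · rwa [Subgroup.map_eq_bot_iff, QuotientGroup.ker_mk']
    · rw [e, map_top_of_surjective _ (QuotientGroup.mk'_surjective _)]⟩
  have h8 : ∃ a b : L ⧸ center L, a * b ≠ b * a := by
    by_contra! h
    letI : CommGroup (L ⧸ center L) := { (inferInstance : Group _) with mul_comm := h }
    exact h6 (eq_top_iff.mpr fun a _ => mem_center_iff.mpr fun b =>
      commutative_of_cyclic_center_quotient (QuotientGroup.mk' _) (QuotientGroup.ker_mk' _).le b a)
  refine ⟨L, inferInstance, h7, h8, (h5 _ inferInstance).resolve_right fun e => ?_,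
    ((Nat.Prime.dvd_mul hp.out).mp (card_eq_card_quotient_mul_card_subgroup (center L) ▸ h3)).resolve_right
      fun e => h6 (h4 _ inferInstance e)⟩
  obtain ⟨a, b, h⟩ := h8
  exact h ((Normal.quotient_commutative_iff_commutator_le.mpr e).is_comm.comm a b)

theorem under (L : Subgroup G) [L.Normal] {d : ℕ} (h : ∃ χ : IrrCharacter G, d ∣ dg χ)
    (hc : d.Coprime (Nat.card G / Nat.card (L ⧸ center L))) : ∃ θ : IrrCharacter L, d ∣ dg θ := by
  haveI := Fintype.ofFinite L
  obtain ⟨χ, hχ⟩ := h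
  obtain ⟨θ, hθ, hi⟩ := exists_irr_under L χ.2
  rw [← L.card_mul_index, card_eq_card_quotient_mul_card_subgroup (center L), mul_assoc,
    Nat.mul_div_cancel_left _ Nat.card_pos] at hc
  exact ⟨⟨θ, hθ⟩, (Nat.Coprime.coprime_mul_left_right hc).dvd_of_dvd_mul_left
    (hχ.trans (deg_dvd_index_mul L χ.2 hθ hi))⟩

theorem sq_le (L : Subgroup G) [L.Normal] {d : ℕ} (h : ∃ χ : IrrCharacter G, d ∣ dg χ)
    (hc : d.Coprime (Nat.card G / Nat.card (L ⧸ center L))) : d ^ 2 ≤ Nat.card (L ⧸ center L) := by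
  obtain ⟨θ, hθ⟩ := under L h hc
  exact (Nat.pow_le_pow_left (Nat.le_of_dvd (dg_pos θ) hθ) 2).trans
    (deg_sq_le_index_of_le_center θ.2 _ le_rfl)

theorem quot_dvd (L : Subgroup G) : Nat.card (L ⧸ center L) ∣ Nat.card G :=
  (card_quotient_dvd_card _).trans (card_subgroup_dvd_card L)

variable {p : ℕ}

theorem QS.of_card (h : QS p G) (e : Nat.card G ≤ Nat.card (G ⧸ center G)) : IsSimpleGroup G :=
  haveI := h.simple
  (MulEquiv.ofBijective (QuotientGroup.mk' (center G)) ((QuotientGroup.mk'_surjective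
    _).bijective_of_nat_card_le e)).isSimpleGroup

theorem QS.top {L : Subgroup G} (h : QS p L) (e : Nat.card (L ⧸ center L) = Nat.card G) :
    IsSimpleGroup G :=
  haveI := h.of_card (e ▸ card_le_card_group L)
  (MulEquiv.ofBijective L.subtype (L.subtype_injective.bijective_of_nat_card_le
    (e ▸ Nat.le_of_dvd Nat.card_pos (card_quotient_dvd_card _)))).symm.isSimpleGroup

theorem QS.of_mult (h : QS p G) {M : Type*} [Group M] (hM : HasCyclicSchurMultiplier M 1)
    (e : Nonempty ((G ⧸ center G) ≃* M)) :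
    IsSimpleGroup G ∧ Nat.card G = Nat.card (G ⧸ center G) := by
  obtain ⟨e⟩ := e
  have h1 : (e.toMonoidHom.comp (QuotientGroup.mk' _)).ker = center G := by
    rw [MonoidHom.ker_comp_of_injective _ _ e.injective, QuotientGroup.ker_mk']
  obtain ⟨f, hf⟩ := Schur.exists_surj_ker hM ⟨e.surjective.comp (QuotientGroup.mk'_surjective _),
    h1.le, h.perfect ▸ le_top⟩
  have h2 := card_dvd_of_surjective f hf
  rw [h1, Nat.card_congr Multiplicative.toAdd, Nat.card_zmod, Nat.dvd_one] at h2
  have h3 := card_eq_card_quotient_mul_card_subgroup (center G)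
  rw [h2, mul_one] at h3
  exact ⟨h.of_card h3.le, h3⟩

end CfsgLib.MathRec.DegG
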