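import Mathlib
import Cfsg.Agent.Lib.MathRec.DegG
import Cfsg.Agent.Lib.MathRec.U11
import Cfsg.Agent.Lib.MathRec.U23
import Cfsg.Agent.S2034
import Cfsg.Agent.S2037

/-!
A group with the order of a Mathieu group and some of its character degrees is simple.
-/

set_option autoImplicit false

namespace CfsgLib.MathRec.DegG

open Cfsg CfsgLib.Char CfsgLib.DefectOne CfsgLib.Tuan CfsgLib.ChTab Subgroup T11

variable {G : Type*} [Group G] [Finite G]

theorem deg11 [IsSimpleGroup G] (hG : Nat.card G = 7920) :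
    (∃ χ : IrrCharacter G, 55 ∣ dg χ) ∧ ∀ χ : IrrCharacter G, ¬ 33 ∣ dg χ := by
  haveI := Fintype.ofFinite G
  obtain ⟨x, hx⟩ := exists_syl (G := G) (p := 11) (by rw [hG]; decide) (by rw [hG]; decide)
  obtain ⟨y, hy⟩ := exists_syl (G := G) (p := 5) (by rw [hG]; decide) (by rw [hG]; decide)
  refine ⟨?_, fun χ h => (by decide : ∀ r ∈ T, ¬ 33 ∣ r.1) _ (mem_T hG hx hy χ) h⟩
  obtain ⟨-, -, l, -, -, h⟩ := table hG hx hy
  have : ∃ r ∈ l.map (row x y), 55 ∣ r.1 := by rcases h with h | h <;> rw [h] <;> decide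
  obtain ⟨_, h1, h2⟩ := this
  obtain ⟨χ, -, rfl⟩ := List.mem_map.mp h1
  exact ⟨χ, h2⟩

theorem deg23 [IsSimpleGroup G] (hG : Nat.card G = 10200960) :
    (∃ χ : IrrCharacter G, 253 ∣ dg χ) ∧ ∀ χ : IrrCharacter G, ¬ 161 ∣ dg χ := by
  obtain ⟨x, hx⟩ := exists_syl (G := G) (p := 23) (by rw [hG]; decide) (by rw [hG]; decide)
  obtain ⟨y, hy⟩ := exists_syl (G := G) (p := 11) (by rw [hG]; decide) (by rw [hG]; decide)
  obtain ⟨w, hw⟩ := exists_syl (G := G) (p := 5) (by rw [hG]; decide) (by rw [hG]; decide)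
  obtain ⟨-, l, -, h1, h⟩ := T23.table hG hx hy hw
  refine ⟨?_, fun χ => (by decide : ∀ r ∈ T23.tab, ¬ 161 ∣ r.1) _
    (h ▸ List.mem_map_of_mem (h1 χ))⟩
  obtain ⟨_, h1, h2⟩ : ∃ r ∈ l.map (T23.row x y w), 253 ∣ r.1 := by rw [h]; decide
  obtain ⟨χ, -, rfl⟩ := List.mem_map.mp h1
  exact ⟨χ, h2⟩

theorem simple11 (hG : Nat.card G ∈ [7920, 443520]) (h : ∃ χ : IrrCharacter G, 55 ∣ dg χ)
    (h' : Nat.card G = 443520 → ∃ χ : IrrCharacter G, 33 ∣ dg χ) : IsSimpleGroup G := by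
  have h0 : Nat.card G ∣ 11 * 40320 := (by decide : ∀ n ∈ [7920, 443520], n ∣ 11 * 40320) _ hG
  obtain ⟨L, _, hL⟩ := core h0 (by decide) (by decide) (h.imp fun _ => (show 11 ∣ 55 by decide).trans)
  haveI := hL.simple
  by_contra h4
  have h6 := (by decide : ∀ n ∈ [7920, 443520], ∀ s ∈ [660, 7920, 443520], s ∣ n → s ≠ n →
    (Nat.Coprime 55 (n / s) → 55 ^ 2 ≤ s) → s = 7920 ∧ n = 443520) _ hG _
    (DegS.card11 hL.hna ((quot_dvd L).trans h0) hL.dvd) (quot_dvd L) (mt hL.top h4) (sq_le L h)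
  obtain ⟨_, h7⟩ := hL.of_mult Cfsg.Agent.S2034.result (uniq_M11 h6.1)
  obtain ⟨θ, hθ⟩ := under L (h' h6.2) (by rw [h6.1, h6.2]; decide)
  exact (deg11 (h7.trans h6.1)).2 θ hθ

theorem simple23 (hG : Nat.card G ∈ [10200960, 244823040]) (h : ∃ χ : IrrCharacter G, 253 ∣ dg χ)
    (h' : Nat.card G = 244823040 → ∃ χ : IrrCharacter G, 161 ∣ dg χ) : IsSimpleGroup G := by
  have h0 : Nat.card G ∣ 23 * 10644480 :=
    (by decide : ∀ n ∈ [10200960, 244823040], n ∣ 23 * 10644480) _ hG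
  haveI : Fact (Nat.Prime 23) := ⟨by norm_num⟩
  obtain ⟨L, _, hL⟩ := core h0 (by decide) (by decide)
    (h.imp fun _ => (show 23 ∣ 253 by decide).trans)
  haveI := hL.simple
  by_contra h4
  have h6 := (by decide : ∀ n ∈ [10200960, 244823040],
    ∀ s ∈ [6072, 10626, 17710, 45540, 10200960, 244823040], s ∣ n → s ≠ n →
      (Nat.Coprime 253 (n / s) → 253 ^ 2 ≤ s) → s = 10200960 ∧ n = 244823040) _ hG _
    (DegS.card23 hL.hna ((quot_dvd L).trans h0) hL.dvd) (quot_dvd L) (mt hL.top h4) (sq_le L h)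
  obtain ⟨_, h7⟩ := hL.of_mult Cfsg.Agent.S2037.result (uniq_M23 h6.1)
  obtain ⟨θ, hθ⟩ := under L (h' h6.2) (by rw [h6.1, h6.2]; decide)
  exact (deg23 (h7.trans h6.1)).2 θ hθ

end CfsgLib.MathRec.DegG
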