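import Mathlib
import Cfsg.Agent.Lib.MathRec.T23

/-!
A simple group of order 244823040 acting 3-transitively on 24 points is the Mathieu group.
-/

set_option autoImplicit false

namespace CfsgLib.MathRec

open Cfsg CfsgLib.Char CfsgLib.Block CfsgLib.DefectOne CfsgLib.DefectOne.B43 CfsgLib.Tuan
  CfsgLib.ChTab Subgroup Finset MulAction T23

variable {G : Type*} [Group G] [Finite G] [IsSimpleGroup G]

theorem iso_M24_of_three (hG : Nat.card G = 244823040) {x : G} (hs : SC 23 x) {α : Type*}
    [MulAction G α] [Finite α] (hα : Nat.card α = 24) (h : IsMultiplyPretransitive G α 3) :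
    Nonempty (G ≃* M24) := by
  classical
  haveI := Fintype.ofFinite α
  obtain ⟨a⟩ : Nonempty α := (Nat.card_pos_iff.mp (by omega)).1
  obtain ⟨c, ψ, hψ⟩ := exists_irr_stab h (by omega) a
  haveI : IsPretransitive G α :=
    is_one_pretransitive_iff.mp (isMultiplyPretransitive_of_le (n := 3) (by omega) (by omega))
  have hK : Nat.card (stabilizer G a) = 10200960 := by
    have := (stabilizer G a).index_mul_card
    rw [index_stabilizer_of_transitive, hG, hα] at this
    omega
  haveI := simple_of_sc ar11.2.2.2.1 hs _ hK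
  rw [Nat.card_eq_fintype_card] at hα
  haveI := faithful_of_simple h (by omega)
  exact iso_M24' hG hα fun T => small_of_stab a (of_action hK (by
    rw [Nat.card_eq_fintype_card (α := α)] at c; omega) hψ).2

/-- The form for a real character of degree 23. -/
theorem iso_M24_of_char [Fintype G] (hG : Nat.card G = 244823040) {x : G} (hs : SC 23 x)
    {χ : IrrCharacter G} (h1 : dg χ = 23) (h2 : nu χ = 1) (h3 : IsIrrCharacter G (alt χ))
    (h4 : classInner (fun g => (χ : G → ℂ) g ^ 2) χ = 1) : Nonempty (G ≃* M24) := by
  obtain ⟨H, hH, h⟩ := Norton.exists_perm_char χ.2 (conj_eq_of_nu (by rw [h2]; decide)) (n := 23)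
    (by rw [← dg_cast, h1]) (by norm_num) h3 (by rw [h4]; exact one_ne_zero)
  have o3 := orbits_three h fun e => by rw [e, dg_one] at h1; omega
  exact iso_M24_of_three hG hs hH (multiply_of_orbits (n := 3)
    (hH.symm ▸ by decide : 3 ≤ H.index) (by rw [h4] at o3; exact_mod_cast o3))

end CfsgLib.MathRec
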