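import Mathlib
import Cfsg.Agent.Lib.MathRec.Stab
import Cfsg.Agent.Lib.MathRec.T11

/-!
A simple group of order 95040: the Sylow subgroups of order 5 and 11.
-/

set_option autoImplicit false

namespace CfsgLib.MathRec.T12

open Cfsg CfsgLib.Char CfsgLib.Block CfsgLib.DefectOne CfsgLib.DefectOne.B43 CfsgLib.Tuan
  CfsgLib.ChTab Subgroup Finset MulAction T11

theorem chk5 : optsCheck2 95040 308 5 (fun _ k => k == 1) (fun _ _ _ => true) [] (fun _ => [])
    (fun _ _ _ _ => false) = true := by decide +kernel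

theorem chk11 : optsCheck2 95040 308 11 (fun _ _ => true) (fun _ _ d => d != 5) []
    (fun k => btMd (11 * k) [(3, 3)]) (fun e k z l => !bt0 (11 * k) 2 6 z l || (e == 10 && k == 6) ||
      [(5, 1, 60, [-10, 45, -120, 144]), (5, 1, 27, [-10, 12, 12, 12]),
        (5, 1, 16, [45, -54, -120, 144])].contains (e, k, z, l)) = true := by decide +kernel

theorem chk5a : optsCheck2 95040 308 5 (fun _ k => k % 3 == 0)
    (fun _ _ d => d % 11 != 0 || decide (110 ≤ d)) [] (fun _ => [])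
    (fun _ _ _ _ => false) = true := by decide +kernel

/-- The options at 5. -/
noncomputable def o5 (dl : List ℕ) (ks : List (ℕ × ℕ)) : Bool :=
  optsCheck2 95040 308 5 (fun _ _ => true) (fun _ _ d => d % 11 == 0 || dl.contains d) []
    (fun _ => []) fun e k _ _ => ks.contains (e, k)

theorem chk5b : o5 [60, 10, 45, 120, 144] [(4, 2), (4, 12)] = true ∧
    o5 [27, 10, 12] [(2, 4), (2, 9), (2, 24), (2, 144)] = true ∧
    o5 [16, 45, 54, 120, 144] [(4, 2), (4, 12), (4, 27)] = true := by decide +kernel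

/-- The search with the columns of `11` and `5`. -/
noncomputable def kill (z : ℤ) (l : List ℤ) (e k T : ℕ) : Bool :=
  enumP ((([10, -10, 5, -5, 0] ×ˢ divs 95040 308).filter fun r => scrow 11 5 z l r.2 r.1).flatMap
    fun r => ((irange T).filter fun v : ℤ =>
      (r.2 != 1 || v == 4) && (r.2 + v) % 5 == 0 && (95040 / (5 * k) : ℕ) * v % r.2 == 0 &&
        (e != 4 || (v % 4 == 0 && (95040 / (5 * k) : ℕ) * (v / 4) % r.2 == 0))).map fun v => (r.2, r.1, v))
    [(fun r => r.1 * r.1, 0, 95040), (fun r => r.2.1 * r.2.1, 1, 550),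
      (fun r => r.2.2 * r.2.2, 2, 4 * e * (5 * k)), (fun r => if r.2.1 = 0 then 0 else r.1 * r.1, 1,
        1 + (l.map fun s => s.natAbs * s.natAbs).sum + 2 * (z.natAbs * z.natAbs))]
    [(fun r => r.1 * r.2.2, 2, 0), (fun r => r.2.1 * r.2.2, 1, 0), (fun r => r.1 * r.2.1, 1, 0)]
    [] [] (fun _ => false) 800 && decide (4 * e * (5 * k) < (T + 1) ^ 2)

theorem chkK : kill 27 [-10, 12, 12, 12] 2 9 18 = true ∧ kill 16 [45, -54, -120, 144] 4 12 30 = true ∧
    kill 16 [45, -54, -120, 144] 4 27 46 = true := by decide +kernel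

variable {G : Type*} [Group G] [Finite G] [IsSimpleGroup G]

theorem hna (hG : Nat.card G = 95040) : ∃ a b : G, a * b ≠ b * a :=
  nonab (by rw [hG]; norm_num)

theorem kk5_ne (hG : Nat.card G = 95040) {y : G} (hy : Syl 5 y) : kk 5 y ≠ 1 := fun h => by
  obtain ⟨ξ, hξ, ⟨E⟩⟩ := exists_data hy
  simpa using opts_sound2 (hna hG) hy hξ E hG (by simp [h]) (fun _ _ _ => rfl) (by simp) (by simp)
    chk5

theorem o5_sound (hG : Nat.card G = 95040) {x : G} (hs : SC 11 x) {ζ : ℂ}
    (hζ : IsPrimitiveRoot ζ 11) (D : PrinData 11 x ζ) {l : List ℤ} (hl : l = SX D) {y : G}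
    (hy : Syl 5 y) {ks : List (ℕ × ℕ)} (h : o5 ((zz D :: l).map Int.natAbs) ks = true) :
    (ee y, kk 5 y) ∈ ks := by
  obtain ⟨ξ, hξ, ⟨E⟩⟩ := exists_data hy
  obtain ⟨_, -, h'⟩ := opts_sound2 (hna hG) hy hξ E hG rfl (fun χ h1 _ => by
    have h2 := scrow_of D hs hζ hl χ
    have h3 := one_lt_dg (hna hG) h1
    simp only [scrow, b0row, Bool.or_eq_true, Bool.and_eq_true, beq_iff_eq, List.contains_iff_mem,
      List.map_cons, List.mem_cons, List.mem_map] at h2 ⊢
    rcases h2 with h | (⟨-, h | h⟩ | h) | h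
    exacts [Or.inl h.2, absurd h h3.ne', Or.inr (Or.inr ⟨_, h, by simp⟩),
      Or.inr (Or.inr ⟨_, h.2, by simp⟩), Or.inr (Or.inl h.1)]) (by simp) (by simp) h
  exact List.contains_iff_mem.mp h'

theorem kill_sound (hG : Nat.card G = 95040) {x : G} (hs : SC 11 x) (he : ee x = 5) {ζ : ℂ}
    (hζ : IsPrimitiveRoot ζ 11) (D : PrinData 11 x ζ) {l : List ℤ} (hl : l = SX D) {y : G}
    (hy : Syl 5 y) {T : ℕ} (h : kill (zz D) l (ee y) (kk 5 y) T = true) : False := by
  rw [kill, Bool.and_eq_true, decide_eq_true_eq] at h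
  have h1 := sum_vv_sq hs.syl
  have h2 := sum_vv_sq hy
  rw [he, kk_of_sc hs] at h1
  simpa using enumP_finset h.1 univ (fun χ => (dg χ, vv 11 x χ, vv 5 y χ)) (fun χ _ => by
    have a1 := scrow_of D hs hζ hl χ
    rw [he] at a1
    simp only [List.mem_flatMap, List.mem_filter, List.mem_map, Bool.and_eq_true,
      Bool.or_eq_true, beq_iff_eq, bne_iff_ne, ← Int.dvd_iff_emod_eq_zero]
    refine ⟨(vv 11 x χ, dg χ), ⟨List.mem_product.mpr ⟨?_, mem_divs_dg hG (by norm_num) χ⟩, a1⟩, _,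
      ⟨mem_irange_of_sum (by have := h.2; zify at this; rw [h2]; simpa using this) χ, ⟨⟨one_row (hna hG) (vv_one hy) χ,
        dvd_add_vv hy χ⟩, hG ▸ dg_dvd_vv hy χ⟩,
        or_iff_not_imp_left.mpr fun e => ?_⟩, rfl⟩
    · have := Int.sign_trichotomy (zz D)
      simp [scrow, b0row] at a1 ⊢; omega
    · have e' : ee y = 5 - 1 := not_not.mp e
      have a4 := dg_dvd_cv (ratl_of_ee hy e') χ
      rw [cC_of_syl hy, hG] at a4
      rw [vv_eq_cv hy e']
      exact ⟨by simp, by simpa using a4⟩)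
    (by
      simp only [List.forall_mem_cons, List.not_mem_nil, false_imp_iff, implies_true, and_true,
        sum_dg_sq_int, hG, h1, h2]
      rw [sum_sc D hs hζ (fun d v => if v = 0 then 0 else d * d) (by simp), ← hl, he]
      have : (zz D).sign ≠ 0 := by
        rw [Ne, Int.sign_eq_zero_iff_zero, ← Int.natAbs_eq_zero, natAbs_zz]; exact (z0_pos D).ne'
      refine ⟨rfl, rfl, rfl, ?_⟩
      simp [this]
      congr 1
      exact List.map_congr_left fun s _ => by by_cases h : s = 0 <;> simp [h])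
    (by simp [sum_dg_vv hy, sum_dg_vv hs.syl, sum_vv_vv hs.syl hy]) (by simp) (by simp)

theorem data (hG : Nat.card G = 95040) {x : G} (hx : Syl 11 x) {ζ : ℂ}
    (hζ : IsPrimitiveRoot ζ 11) (D : PrinData 11 x ζ) {y : G} (hy : Syl 5 y) :
    SC 11 x ∧ ee x = 5 ∧ zz D = 16 ∧ ([45, -54, -120, 144] : List ℤ) = SX D ∧
      ee y = 4 ∧ kk 5 y = 2 := by
  classical
  obtain ⟨ξ, hξ, ⟨E⟩⟩ := exists_data hy
  obtain ⟨l, hl, h⟩ := opts_sound2 (hna hG) hx hζ D hG rfl (fun χ h1 _ => by
      have := BZ.two_mul_le (hna hG) (D := E) hy (χ := χ) (by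
        have := kk5_ne hG hy; rw [card_CC_eq hy]; omega)
      exact bne_iff_ne.mpr fun e => by have := this (Or.inr (Or.inr e.symm.dvd)) h1; omega)
    (by simp) (relM_bt D hx hζ (by rw [hG]; decide)) chk11
  rw [bt0_of (hna hG) D hx hζ hl Nat.prime_two (by rw [hG]; decide) (by rw [hG]; decide)
    (by decide)] at h
  have k10 : (-10 : ℤ) ∈ l → ¬ 2 ∣ kk 5 y := fun h1 h2 => by
    obtain ⟨χ, hχ, e⟩ := Multiset.mem_map.mp (hl ▸ Multiset.mem_coe.mpr h1 : _ ∈ SX D)
    have := natAbs_sd D (mem_of_mem_erase hχ)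
    have := three_mul_le (hna hG) hy h2 (χ := χ) (by omega)
    omega
  simp only [Bool.not_true, Bool.false_or, Bool.or_eq_true, Bool.and_eq_true, beq_iff_eq,
    List.contains_iff_mem, List.mem_cons, Prod.mk.injEq, List.not_mem_nil, or_false] at h
  rcases h with ⟨he, hk⟩ | ⟨he, hk, hz, rfl⟩ | ⟨he, hk, hz, rfl⟩ | ⟨he, hk, hz, rfl⟩
  · exfalso
    obtain ⟨w, hw, h1, h2⟩ := exists_syl_mem_NN (q := 5) hx (by rw [he]; decide) hy.nsq
    obtain ⟨h3, u, h4, h5, h6, h7, h8⟩ := exists_common hx hw Nat.prime_three (by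
      simpa using pow_dvd_card_inf hx hw h1 h2 Nat.prime_three (j := 1) (by rw [hk]; decide)
        fun i hi k hk' hj => by
          have := (Nat.pow_le_pow_iff_right (a := 3) (m := 1) (n := k) (by norm_num)).not.mpr
          have := Nat.le_of_dvd (by omega) hk'
          have : k < 2 := (Nat.pow_lt_pow_iff_right (a := 3) (by norm_num)).mp (by omega)
          interval_cases k; interval_cases i; decide)
    obtain ⟨ξ', hξ', ⟨F⟩⟩ := exists_data hw
    simpa using opts_sound2 (hna hG) hw hξ' F hG (by simp; omega) (fun χ a1 a2 => by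
      have := two_mul_mul_le (hna hG) (D := D) (E := F) hx hw (by decide)
        (fun e => by simp [e] at h4) h5 h6 h7 h8 (χ := χ)
      simp only [Bool.or_eq_true, bne_iff_ne, decide_eq_true_eq]
      exact or_iff_not_imp_left.mpr fun e => this (Or.inr (Or.inr (by omega)))
        (or_assoc.mp (Or.inl a2)) a1) (by simp) (by simp) chk5a
  · have := o5_sound hG (sc_of_kk hx hk) hζ D hl hy (by rw [hz]; exact chk5b.1)
    have := k10 (by decide)
    simp at *; omega
  · have h1 := o5_sound hG (sc_of_kk hx hk) hζ D hl hy (by rw [hz]; exact chk5b.2.1)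
    have := k10 (by decide)
    have h2 : ee y = 2 ∧ kk 5 y = 9 := by simp at *; omega
    exact (kill_sound hG (sc_of_kk hx hk) he hζ D hl hy (by rw [hz, h2.1, h2.2]; exact chkK.1)).elim
  · have h1 := o5_sound hG (sc_of_kk hx hk) hζ D hl hy (by rw [hz]; exact chk5b.2.2)
    simp only [List.mem_cons, Prod.mk.injEq, List.not_mem_nil, or_false] at h1
    rcases h1 with h2 | h2 | h2
    · exact ⟨sc_of_kk hx hk, he, hz, hl, h2⟩
    · exact (kill_sound hG (sc_of_kk hx hk) he hζ D hl hy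
        (by rw [hz, h2.1, h2.2]; exact chkK.2.1)).elim
    · exact (kill_sound hG (sc_of_kk hx hk) he hζ D hl hy
        (by rw [hz, h2.1, h2.2]; exact chkK.2.2)).elim

end CfsgLib.MathRec.T12
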