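import Mathlib
import Cfsg.Agent.Lib.ChTab.Enum4
import Cfsg.Agent.Lib.MathRec.T12a

/-!
A simple group of order 95040: the columns of the elements of order 5, 10 and 2.
-/

set_option autoImplicit false

namespace CfsgLib.MathRec.T12

open Cfsg CfsgLib.Char CfsgLib.Block CfsgLib.DefectOne CfsgLib.DefectOne.B43 CfsgLib.Tuan
  CfsgLib.ChTab Subgroup Finset MulAction T11

abbrev Row := ℕ × ℤ × ℤ × ℤ × ℤ

/-- The rows without the involution. -/
noncomputable def base : List (ℕ × ℤ × ℤ × ℤ) :=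
  ((([10, -10, -5, 0] ×ˢ [1, -1, 2, -2, 3, -3, 0] ×ˢ divs 95040 308).filter fun r =>
    scrow 11 5 16 [45, -54, -120, 144] r.2.2 r.1 && (r.2.1 - r.2.2 : ℤ) % 5 == 0 &&
      9504 * r.2.1 % (r.2.2 : ℤ) == 0).flatMap fun r => (([1, -1, 2, -2, 3, -3, 0] : List ℤ).filter
        fun w => (w - r.2.1) % 2 == 0 && 9504 * w % (r.2.2 : ℤ) == 0 &&
          (r.2.2 != 1 || (r.2.1, w) == (1, 1))).map fun w => (r.2.2, r.1, r.2.1, w))

def tab (a : ℤ) (b : Bool) : List Row :=
  (if b then [(55, 0, 0, 0, -5), (55, 0, 0, 0, -5), (55, 0, 0, 0, -5), (99, 0, -1, -1, -1),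
    (11, 0, 1, -1, -1), (11, 0, 1, -1, -1)] else
    [(55, 0, 0, 0, -5), (44, 0, -1, 1, -4), (99, 0, -1, -1, -1), (66, 0, 1, -1, -6)]) ++
  [(66, 0, 1, 1, 6), (176, 0, 1, a, -4 * a), (16, -5, 1, -a, 4 * a), (16, -5, 1, -a, 4 * a),
    (120, -10, 0, 0, 0), (54, -10, -1, 1, 6), (45, 10, 0, 0, 5), (144, 10, -1, -a, 4 * a),
    (1, 10, 1, 1, 1)]

/-- The search for `|C(y)| = C`. -/
noncomputable def srch (C : ℕ) : Bool :=
  enumQ (base.flatMap fun r => ((irange (min 92 r.1)).filter fun t : ℤ => (r.2.2.2 - t) % 5 == 0 &&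
      (r.1 - t) % 4 == 0 && decide (t * t ≤ C) && (95040 / C : ℕ) * t % r.1 == 0 &&
      (r.1 != 1 || t == 1) && (r.1 == 1 || decide (t.natAbs < r.1))).map fun t =>
        ((r.1, r.2.1, r.2.2.1, r.2.2.2, t) : Row))
    [(fun r => r.1 * r.1, 0, 95040), (fun r => r.2.1 * r.2.1, 1, 550),
      (fun r => r.2.2.1 * r.2.2.1 + r.2.2.2.1 * r.2.2.2.1, 2, 20),
      (fun r => r.2.2.2.2 * r.2.2.2.2, 0, C), (fun r => if r.2.1 = 0 then 0 else r.1 * r.1, 1, 40590),
      (fun r => r.2.2.1 * r.2.2.1, 2, 10)]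
    [(fun r => r.1 * r.2.2.1, 2, 0), (fun r => r.1 * r.2.2.2.1, 2, 0),
      (fun r => r.2.1 * r.2.2.1, 1, 0), (fun r => r.2.1 * r.2.2.2.1, 1, 0),
      (fun r => r.2.1 * r.2.2.2.2, 1, 0),
      (fun r => (95040 / r.1 : ℕ) * (r.2.2.2.2 * r.2.2.2.2) * r.2.1, 1, 0),
      (fun r => r.2.2.1 * r.2.2.2.2, 2, 0), (fun r => r.2.2.2.1 * r.2.2.2.2, 2, 0),
      (fun r => r.2.2.1 * r.2.2.2.1, 2, 0), (fun r => r.1 * r.2.2.2.2, 3, 0),
      (fun r => r.1 * r.2.1, 1, 0)] [] []
    (fun l => C == 240 && [tab 1 true, tab 1 false, tab (-1) true, tab (-1) false].contains l) 800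

theorem chk120 : srch 120 = true := by decide +kernel

theorem chk240 : srch 240 = true := by decide +kernel

theorem chk1440 : srch 1440 = true := by decide +kernel

/-- The search for the column of a central involution in the principal 11-block. -/
noncomputable def srchZ (C : ℕ) : Bool :=
  enumQ ((([(144, 10), (120, -10), (54, -10), (45, 10), (16, -5), (1, 10)] : List (ℕ × ℤ)).flatMap
    fun r => ((irange 92).filter fun t : ℤ => (r.1 - t) % 4 == 0 && decide (t * t ≤ C) &&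
      (95040 / C : ℕ) * t % r.1 == 0 && (r.1 != 1 || t == 1) &&
      (r.1 == 1 || decide (t.natAbs < r.1))).map fun t => (r.1, r.2, t)))
    [(fun r => r.2.1 * r.2.1, 0, 550), (fun r => if r.2.1 = 0 then 0 else r.1 * r.1, 0, 40590)]
    [(fun r => r.2.1 * r.2.2, 0, 0), (fun r => (95040 / r.1 : ℕ) * (r.2.2 * r.2.2) * r.2.1, 0, 0),
      (fun r => r.1 * r.2.1, 0, 0)] [(fun r => r.2.2 * r.2.2, 1, C)] [] (fun _ => false) 30

theorem chkZ : ((allDivs 8640 92).all fun C => (C % 10 != 0 && C % 64 != 0) ||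
    [120, 192, 240, 1440].contains C || srchZ C) = true := by decide +kernel

variable {G : Type*} [Group G] [Finite G] [IsSimpleGroup G]

omit [IsSimpleGroup G] in
theorem sq_le_cC {g : G} (h : Ratl g) (χ : IrrCharacter G) : cv g χ * cv g χ ≤ cC g :=
  sum_cv_sq h ▸ single_le_sum (f := fun χ => cv g χ * cv g χ) (fun _ _ => mul_self_nonneg _)
    (mem_univ χ)

theorem one_or_lt (hG : Nat.card G = 95040) {g : G} (h : Ratl g) (hg : g ≠ 1)
    (χ : IrrCharacter G) : dg χ = 1 ∨ (cv g χ).natAbs < dg χ :=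
  or_iff_not_imp_left.mpr fun e => natAbs_cv_lt (hna hG) h hg fun e' => e (e' ▸ dg_one)

theorem cC_dvd (hG : Nat.card G = 95040) {j : G} (hj : orderOf j = 2) : cC j ∣ 8640 := by
  obtain ⟨x, hx⟩ := exists_syl (G := G) (p := 11) (by rw [hG]; norm_num) (by rw [hG]; norm_num)
  obtain ⟨y, hy⟩ := exists_syl (G := G) (p := 5) (by rw [hG]; norm_num) (by rw [hG]; norm_num)
  obtain ⟨ζ, hζ, ⟨D⟩⟩ := exists_data hx
  have h := not_dvd_cC (data hG hx hζ D hy).1 (g := j) (fun e => by simp [e] at hj) (by omega)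
  exact (f11.out.coprime_iff_not_dvd.mpr h).symm.dvd_of_dvd_mul_left
    (show cC j ∣ 95040 from hG ▸ card_subgroup_dvd_card _)

theorem srchZ_sound (hG : Nat.card G = 95040) {j : G} (hj : orderOf j = 2)
    (h : srchZ (cC j) = true) : False := by
  classical
  obtain ⟨x, hx⟩ := exists_syl (G := G) (p := 11) (by rw [hG]; norm_num) (by rw [hG]; norm_num)
  obtain ⟨y, hy⟩ := exists_syl (G := G) (p := 5) (by rw [hG]; norm_num) (by rw [hG]; norm_num)
  obtain ⟨ζ, hζ, ⟨D⟩⟩ := exists_data hx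
  obtain ⟨hs, he, hz, hl, -, -⟩ := data hG hx hζ D hy
  have h2 : j * j = 1 := by rw [← pow_two, ← hj, pow_orderOf_eq_one]
  have h1 : j ≠ 1 := fun e => by simp [e] at hj
  have hr := ratl_of_sq h2
  have h3 := sum_vv_sq hx
  rw [he, kk_of_sc hs] at h3
  have hC := Nat.le_of_dvd (by norm_num) (cC_dvd hG hj)
  have key : ∀ f : IrrCharacter G → ℤ, (∀ χ, vv 11 x χ = 0 → f χ = 0) →
      ∑ χ ∈ univ.filter (vv 11 x · ≠ 0), f χ = ∑ χ, f χ := fun f hf =>
    sum_filter_of_ne fun χ _ h e => h (hf χ e)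
  simpa using enumQ_finset h (univ.filter (vv 11 x · ≠ 0))
    (fun χ => (dg χ, vv 11 x χ, cv j χ)) (fun χ hχ => by
      have a1 := scrow_of D hs hζ hl χ
      rw [he, hz] at a1
      simp only [List.mem_flatMap, List.mem_filter, List.mem_map, Bool.and_eq_true,
        Bool.or_eq_true, beq_iff_eq, bne_iff_ne, ← Int.dvd_iff_emod_eq_zero, decide_eq_true_eq]
      refine ⟨(dg χ, vv 11 x χ), ?_, _, ⟨mem_irange_of_sum (by rw [sum_cv_sq hr]; omega) χ,
        ⟨⟨⟨cv_mod_four (hna hG) h2 χ, sq_le_cC hr χ⟩, hG ▸ dg_dvd_cv hr χ⟩,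
          one_row (hna hG) (cv_irrOne j) χ⟩, one_or_lt hG hr h1 χ⟩, rfl⟩
      have := (mem_filter.mp hχ).2
      simp [scrow, b0row, show Int.sign 16 = 1 from rfl] at a1 ⊢; omega)
    (by
      simp only [List.forall_mem_cons, List.not_mem_nil, false_imp_iff, implies_true, and_true]
      rw [key _ (by simp +contextual), key _ (by simp +contextual), h3,
        sum_sc D hs hζ (fun d v => if v = 0 then 0 else d * d) (by simp), ← hl, he, hz]
      decide)
    (by
      simp only [List.forall_mem_cons, List.not_mem_nil, false_imp_iff, implies_true, and_true]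
      rw [key _ (by simp +contextual), key _ (by simp +contextual), key _ (by simp +contextual),
        sum_vv_cv hx hr (by omega), sum_dg_vv hx, ← hG,
        sum_pair_vv hx (by decide) (by rw [he]; decide) h2 h2]
      simp)
    (by
      simp only [List.forall_mem_cons, List.not_mem_nil, false_imp_iff, implies_true, and_true]
      refine ⟨(∑ χ ∈ univ.filter (¬ vv 11 x · ≠ 0), cv j χ * cv j χ).toNat, ?_⟩
      rw [Int.toNat_of_nonneg (sum_nonneg fun _ _ => mul_self_nonneg _), Nat.cast_one, one_mul,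
        sum_filter_add_sum_filter_not, sum_cv_sq hr]) (by simp)

theorem cC_cases (hG : Nat.card G = 95040) {j : G} (hj : orderOf j = 2)
    (h : 10 ∣ cC j ∨ 64 ∣ cC j) : cC j ∈ [120, 192, 240, 1440] := by
  have := List.all_eq_true.mp chkZ _ (mem_allDivs (by norm_num) (by norm_num) (cC_dvd hG hj))
  simp only [Bool.or_eq_true, Bool.and_eq_true, bne_iff_ne, List.contains_iff_mem] at this
  rcases this with (h' | h') | h'
  · omega
  · exact h'
  · exact (srchZ_sound hG hj h').elim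

/-- The chosen elements. -/
structure Cfg (x w j : G) : Prop where
  hx : Syl 11 x
  hw : Syl 5 w
  hj : orderOf j = 2
  hc : Commute w j

/-- The row of a character. -/
noncomputable def row (x w j : G) (χ : IrrCharacter G) : Row :=
  (dg χ, vv 11 x χ, cv w χ, cv (w * j) χ, cv j χ)

variable {x w j : G}

theorem Cfg.facts (hG : Nat.card G = 95040) (h : Cfg x w j) : Ratl w ∧ Ratl (w * j) ∧ Ratl j ∧
    j * j = 1 ∧ cC w = 10 ∧ cC (w * j) = 10 ∧ orderOf (w * j) = 10 ∧ 10 ∣ cC j := by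
  obtain ⟨ζ, hζ, ⟨D⟩⟩ := exists_data h.hx
  obtain ⟨-, -, -, -, he, hk⟩ := data hG h.hx hζ D h.hw
  have h2 : j * j = 1 := by rw [← pow_two, ← h.hj, pow_orderOf_eq_one]
  have h3 : cC w = 10 := by rw [cC_of_syl h.hw, hk]
  have h4 : orderOf (w * j) = 10 := by
    rw [h.hc.orderOf_mul_eq_mul_orderOf_of_coprime (by rw [h.hj, h.hw.ord]; decide), h.hj, h.hw.ord]
  refine ⟨ratl_of_ee h.hw he, ratl_mul h.hw he h2 (by decide) fun n hn =>
    fix_of_kk_two h.hw hk h.hc (by rw [h.hj]; decide) hn, ratl_of_sq h2, h2, h3,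
    Nat.dvd_antisymm (h3 ▸ cC_dvd_of_pow (n := 6) ?_) (h4 ▸ orderOf_dvd_cC (Commute.refl _)), h4,
    h4 ▸ orderOf_dvd_cC (h.hc.mul_left (Commute.refl j))⟩
  rw [h.hc.mul_pow, show 6 = 5 + 1 from rfl, pow_succ, ← h.hw.ord, pow_orderOf_eq_one, h.hw.ord,
    show 5 + 1 = 2 * 3 from rfl, pow_mul, pow_two, h2, one_pow, one_mul, mul_one]

theorem Cfg.table (hG : Nat.card G = 95040) (h : Cfg x w j) : cC j = 240 ∧
    ∃ l : List (IrrCharacter G), l.Nodup ∧ (∀ χ, χ ∈ l) ∧ ∃ a b, (a = 1 ∨ a = -1) ∧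
      l.map (row x w j) = tab a b := by
  obtain ⟨ζ, hζ, ⟨D⟩⟩ := exists_data h.hx
  obtain ⟨hs, he, hz, hl, -, -⟩ := data hG h.hx hζ D h.hw
  obtain ⟨r1, r2, r3, h2, c1, c2, o2, c3⟩ := h.facts hG
  have o1 := h.hw.ord
  have o3 := h.hj
  have h1 : j ≠ 1 := fun e => by simp [e] at o3
  have h3 := sum_vv_sq h.hx
  rw [he, kk_of_sc hs] at h3
  have hC := Nat.le_of_dvd (by norm_num) (cC_dvd hG h.hj)
  have hS : srch (cC j) = true := by
    have := cC_cases hG h.hj (Or.inl c3)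
    simp only [List.mem_cons, List.not_mem_nil, or_false] at this
    rcases this with e | e | e | e <;> rw [e]
    exacts [chk120, by omega, chk240, chk1440]
  have e3 : ∀ u ∈ irange 3, u ∈ ([1, -1, 2, -2, 3, -3, 0] : List ℤ) := by decide
  obtain ⟨l, hn, hm, hg⟩ := enumQ_finset hS univ (row x w j) (fun χ _ => by
      have a1 := scrow_of D hs hζ hl χ
      rw [he, hz] at a1
      have a2 := dg_dvd_cv r1 χ
      have a3 := dg_dvd_cv r2 χ
      rw [hG, c1] at a2
      rw [hG, c2] at a3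
      have a4 := one_or_lt hG r3 h1 χ
      have a5 := one_row (hna hG) (cv_irrOne j) χ
      have a6 := mem_irange_of_sum (T := 92) (f := cv j) (by rw [sum_cv_sq r3]; omega) χ
      simp only [base, List.mem_flatMap, List.mem_filter, List.mem_map, Bool.and_eq_true,
        Bool.or_eq_true, beq_iff_eq, bne_iff_ne, ← Int.dvd_iff_emod_eq_zero, decide_eq_true_eq]
      refine ⟨(dg χ, vv 11 x χ, cv w χ, cv (w * j) χ), ⟨(vv 11 x χ, cv w χ, dg χ),
        ⟨List.mem_product.mpr ⟨?_, List.mem_product.mpr ⟨e3 _ (mem_irange_of_sum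
          (by rw [sum_cv_sq r1, c1]; decide) χ), mem_divs_dg hG (by norm_num) χ⟩⟩, ⟨a1, ?_⟩, a2⟩, _,
        ⟨e3 _ (mem_irange_of_sum (by rw [sum_cv_sq r2, c2]; decide) χ), ⟨?_, a3⟩,
          one_row (hna hG) (f := fun χ => (cv w χ, cv (w * j) χ)) (by simp [cv_irrOne]) χ⟩, rfl⟩, _,
        ⟨?_, ⟨⟨⟨⟨cv_modEq f5.out ⟨1, o1⟩ h.hc r2 r3 χ, cv_mod_four (hna hG) h2 χ⟩, sq_le_cC r3 χ⟩,
          hG ▸ dg_dvd_cv r3 χ⟩, a5⟩, a4⟩, rfl⟩
      · simp [scrow, b0row, show Int.sign 16 = 1 from rfl] at a1 ⊢; omega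
      · simpa [cv_one] using cv_modEq f5.out ⟨1, o1⟩ (Commute.one_right w) (by simpa) ratl_one χ
      · simpa [h.hc.eq] using cv_modEq Nat.prime_two ⟨1, o3⟩ h.hc.symm (h.hc.eq ▸ r2) r1 χ
      · simp only [irange, List.mem_map, List.mem_range] at a6
        exact mem_irange (by omega))
    (by
      simp only [row, List.forall_mem_cons, List.not_mem_nil, false_imp_iff, implies_true, and_true,
        sum_add_distrib, sum_dg_sq_int, hG, h3, sum_cv_sq r1, sum_cv_sq r2, sum_cv_sq r3, c1, c2]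
      rw [sum_sc D hs hζ (fun d v => if v = 0 then 0 else d * d) (by simp), ← hl, he, hz]
      decide)
    (by
      simp only [row, List.forall_mem_cons, List.not_mem_nil, false_imp_iff, implies_true, and_true]
      rw [← hG]
      exact ⟨sum_dg_cv r1 fun e => by simp [e] at o1, sum_dg_cv r2 fun e => by simp [e] at o2,
        sum_vv_cv h.hx r1 (by omega), sum_vv_cv h.hx r2 (by omega), sum_vv_cv h.hx r3 (by omega),
        sum_pair_vv h.hx (by decide) (by rw [he]; decide) h2 h2,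
        sum_cv_cv r1 r3 (not_isConj_of_orderOf (by omega)),
        sum_cv_cv r2 r3 (not_isConj_of_orderOf (by omega)),
        sum_cv_cv r1 r2 (not_isConj_of_orderOf (by omega)), sum_dg_cv r3 h1, sum_dg_vv h.hx⟩)
    (by simp) (by simp)
  simp only [Bool.and_eq_true, beq_iff_eq, List.contains_iff_mem, List.mem_cons, List.not_mem_nil,
    or_false] at hg
  refine ⟨hg.1, l, hn, by simpa using hm, ?_⟩
  rcases hg.2 with e | e | e | e
  exacts [⟨_, _, Or.inl rfl, e⟩, ⟨_, _, Or.inl rfl, e⟩, ⟨_, _, Or.inr rfl, e⟩, ⟨_, _, Or.inr rfl, e⟩]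

end CfsgLib.MathRec.T12
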