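import Mathlib
import Cfsg.Agent.Lib.MathRec.T12b

/-!
A simple group of order 95040 acts sharply 5-transitively on 12 points.
-/

set_option autoImplicit false

namespace CfsgLib.MathRec.T12

open Cfsg CfsgLib.Char CfsgLib.Block CfsgLib.DefectOne CfsgLib.DefectOne.B43 CfsgLib.Tuan
  CfsgLib.ChTab Subgroup Finset MulAction T11

def T : List Row := [(176, 0, 1, 1, -4), (176, 0, 1, -1, 4), (144, 10, -1, -1, 4),
  (144, 10, -1, 1, -4), (120, -10, 0, 0, 0), (99, 0, -1, -1, -1), (66, 0, 1, 1, 6),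
  (55, 0, 0, 0, -5), (54, -10, -1, 1, 6), (45, 10, 0, 0, 5), (16, -5, 1, -1, 4), (16, -5, 1, 1, -4),
  (11, 0, 1, -1, -1), (1, 10, 1, 1, 1)]

/-- The decompositions of a character with the given values. -/
noncomputable def dcp (d c u t : ℤ) (L : List ℕ) : Bool :=
  enumQ T [(fun r => r.1, 0, d), (fun r => if r.1 = 1 then 1 else 0, 0, c)]
    [(fun r => r.2.1, 0, 0), (fun r => r.2.2.1, 0, u), (fun r => r.2.2.2.1, 0, u),
      (fun r => r.2.2.2.2, 0, t)] [] [] (fun l => l.map (·.1) == L) 200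

theorem chkD : dcp 55 0 0 (-5) [55] = true ∧ dcp 66 1 1 6 [1, 11, 54] = true ∧
    dcp 121 0 1 1 [55, 66] = true := by decide +kernel

variable {G : Type*} [Group G] [Finite G] [IsSimpleGroup G] [Fintype G] {x w j : G}

theorem Cfg.good (hG : Nat.card G = 95040) (h : Cfg x w j) : (∀ χ, row x w j χ ∈ T) ∧
    (∀ χ : IrrCharacter G, dg χ = 11 → nu χ = 1) ∧ ∃ χ : IrrCharacter G, dg χ = 11 := by
  obtain ⟨h1, l, hn, hm, a, b, ha, e⟩ := h.table hG
  obtain ⟨ζ, hζ, ⟨D⟩⟩ := exists_data h.hx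
  obtain ⟨hs, he, -⟩ := data hG h.hx hζ D h.hw
  obtain ⟨z, h2, h3⟩ := exists_central (G := G) Nat.prime_two (a := 6) (by decide)
    (by rw [hG]; decide)
  have h4 : cC z = 192 := by
    have := cC_cases hG h2 (Or.inr h3)
    simp at this; omega
  have h5 := le_sqrtN_one h.hj h2 fun c => by have := cC_eq_of_isConj c; omega
  rw [h1, h4, hG, ← Int.ofNat_le, ← sum_nu_cv ratl_one] at h5
  have h6 : ∀ χ ∈ (univ : Finset (IrrCharacter G)), nu χ * cv 1 χ ≤
      if vv 11 x χ = -5 then 0 else (dg χ : ℤ) := fun χ _ => by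
    rw [cv_one]
    split_ifs with c
    · rw [nu_eq_zero_iff.mpr (irrBar_ne_of_odd D h.hx (by norm_num) (by rw [he]; decide) ?_),
        zero_mul]
      rcases bz_of_sc D hs χ with h' | h' | h'
      · have := vv_X D h.hx h'; omega
      · exact h'
      · have := vv_dz h.hx h'; omega
    · rcases (nu_cases χ).2 with c | c | c <;> rw [c] <;> omega
  have h7 := sum_eq_list hn hm (row x w j) fun r => if r.2.1 = -5 then 0 else (r.1 : ℤ)
  have h8 := sum_le_sum h6
  rw [e] at h7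
  have hb : b = true := by
    cases b
    · rcases ha with rfl | rfl <;> exact absurd (h5.trans (h8.trans h7.le)) (by decide)
    · rfl
  subst hb
  have hT : ∀ χ, row x w j χ ∈ T := fun χ => by
    have := e ▸ List.mem_map_of_mem (f := row x w j) (hm χ)
    rcases ha with rfl | rfl <;> revert this <;> generalize row x w j χ = r <;> revert r <;> decide
  refine ⟨hT, fun χ c => ?_, ?_⟩
  · have := (sum_eq_sum_iff_of_le h6).mp (h8.antisymm (h7.le.trans (le_trans (by
      rcases ha with rfl | rfl <;> decide) h5))) χ (mem_univ χ)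
    rw [cv_one, c, vv_dz h.hx c.symm.dvd] at this
    simp at this; omega
  · obtain ⟨χ, -, c⟩ := List.mem_map.mp (e ▸ by simp [tab] : (11, 0, 1, -1, -1) ∈ l.map (row x w j))
    exact ⟨χ, congrArg Prod.fst c⟩

theorem Cfg.dcp_sound (hG : Nat.card G = 95040) (h : Cfg x w j) {Θ : G → ℂ}
    (hΘ : IsCharacter G Θ) {d c u t : ℤ} {L : List ℕ} (hd : dcp d c u t L = true) (h1 : Θ 1 = d)
    (h2 : classInner Θ (fun _ => 1) = c) (h3 : vC 11 x Θ = 0) (h4 : Θ w = u) (h5 : Θ (w * j) = u)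
    (h6 : Θ j = t) : ∃ l : List (IrrCharacter G), Dec Θ l ∧ l.map dg = L := by
  obtain ⟨r1, r2, r3, -⟩ := h.facts hG
  obtain ⟨M, hM⟩ := exists_dec hΘ
  obtain ⟨l, rfl, hl⟩ := enumQ_map hd M (row x w j) (fun b _ => (h.good hG).1 b)
    (by simpa [row] using ⟨hM.dg h1, by simpa using hM.one (hna hG) h2⟩)
    (by simpa [row] using ⟨hM.vv h.hx (n := 0) (by simpa), hM.cv r1 h4, hM.cv r2 h5, hM.cv r3 h6⟩)
    (by simp) (by simp)
  exact ⟨l, hM, by simpa [row, Function.comp_def] using hl⟩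

theorem Cfg.vals (hG : Nat.card G = 95040) (h : Cfg x w j) {χ : IrrCharacter G} (c : dg χ = 11) :
    (χ : G → ℂ) 1 = 11 ∧ Cst 11 x χ 0 ∧ (χ : G → ℂ) w = 1 ∧ (χ : G → ℂ) (w * j) = -1 ∧
      (χ : G → ℂ) j = -1 ∧ (χ : G → ℂ) (w * w) = 1 := by
  obtain ⟨r1, r2, r3, -⟩ := h.facts hG
  obtain ⟨ζ, hζ, ⟨D⟩⟩ := exists_data h.hx
  obtain ⟨hs, -, -, -, he, -⟩ := data hG h.hx hζ D h.hw
  have := (h.good hG).1 χ
  simp only [T, row, c, List.mem_cons, Prod.mk.injEq] at this
  have e : vv 11 x χ = 0 ∧ cv w χ = 1 ∧ cv (w * j) χ = -1 ∧ cv j χ = -1 := by simpa using this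
  refine ⟨by rw [← dg_cast, c]; simp, by simpa using cst_of_sc hs (c := 0) (by simp [e.1]),
    by rw [← cv_cast r1, e.2.1]; simp, by rw [← cv_cast r2, e.2.2.1]; simp,
    by rw [← cv_cast r3, e.2.2.2]; simp, ?_⟩
  simpa [ZMod.val_one] using (cst_of_rat h.hw he (χ := χ) (c := 1)
    (by rw [vv_eq_cv h.hw he, e.2.1])).sq h.hw (by decide) 1

theorem square (hG : Nat.card G = 95040) : ∃ χ : IrrCharacter G, dg χ = 11 ∧ nu χ = 1 ∧
    IsIrrCharacter G (alt χ) ∧ classInner (fun g => (χ : G → ℂ) g ^ 2) χ = 1 := by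
  classical
  obtain ⟨x, hx⟩ := exists_syl (G := G) (p := 11) (by rw [hG]; norm_num) (by rw [hG]; norm_num)
  obtain ⟨w, hw⟩ := exists_syl (G := G) (p := 5) (by rw [hG]; norm_num) (by rw [hG]; norm_num)
  obtain ⟨ζ, hζ, ⟨D⟩⟩ := exists_data hx
  obtain ⟨j, h1, h2, -⟩ := exists_invol hw (data hG hx hζ D hw).2.2.2.2.2
  have h : Cfg x w j := ⟨hx, hw, h1, h2⟩
  obtain ⟨-, hν, χ, c⟩ := h.good hG
  obtain ⟨v1, v2, v3, v4, v5, v6⟩ := h.vals hG c
  have e1 := (h.facts hG).2.2.2.1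
  have e2 : w * j * (w * j) = w * w := by
    rw [← pow_two, h2.mul_pow, pow_two j, e1, mul_one, pow_two]
  obtain ⟨i1, i2⟩ := inner_one_of_nu χ
  rw [hν χ c] at i1 i2
  obtain ⟨lA, hA, gA⟩ := h.dcp_sound hG (isCharacter_altSq (irr_isCharacter χ)) chkD.1
    (by simp [v1]; norm_num) (by rw [i2]; norm_num) (by rw [v2.vC_alt hx (by decide)]; norm_num)
    (by simp [v3, v6]) (by simp [v4, v6, e2]) (by simp [v1, v5, e1]; norm_num)
  obtain ⟨lS, hS, gS⟩ := h.dcp_sound hG (isCharacter_symSq (irr_isCharacter χ)) chkD.2.1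
    (by simp [v1]; norm_num) (by rw [i1]; norm_num) (by rw [v2.vC_sym hx (by decide)]; norm_num)
    (by simp [v3, v6]) (by simp [v4, v6, e2]) (by simp [v1, v5, e1]; norm_num)
  simp only [List.map_eq_cons_iff, List.map_eq_nil_iff] at gA gS
  obtain ⟨a, _, rfl, ha, rfl⟩ := gA
  obtain ⟨b, _, rfl, hb, φ, _, rfl, hc, d, _, rfl, hd, rfl⟩ := gS
  have hn : (([b, φ, d] : List _) + ([a] : List _) : Multiset (IrrCharacter G)).Nodup := by
    refine Multiset.Nodup.of_map dg ?_
    simp only [Multiset.coe_add, Multiset.map_coe, List.map_append, List.map_cons, List.map_nil,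
      ha, hb, hc, hd]
    decide
  have hq : classInner (fun g => (χ : G → ℂ) g ^ 2) φ = 1 := by
    rw [(dec_sq hA hS).inner_irr, Multiset.count_eq_one_of_mem hn (by simp), Nat.cast_one]
  refine ⟨χ, c, hν χ c, Dec.isIrr (ψ := a) hA, ?_⟩
  by_contra hne
  have n2 : χ ≠ φ := fun e => hne (e ▸ hq)
  obtain ⟨u1, u2, u3, u4, u5, -⟩ := h.vals hG hc
  have r1 := conj_eq_of_nu (χ := χ) (by rw [hν χ c]; decide)
  have r2 := conj_eq_of_nu (χ := φ) (by rw [hν φ hc]; decide)
  obtain ⟨lP, hP, gP⟩ := h.dcp_sound hG (isCharacter_mul (irr_isCharacter χ) (irr_isCharacter φ))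
    chkD.2.2 (by simp [v1, u1]; norm_num) (by
      have := classInner_irr_of_ne χ.2 φ.2 fun e => n2 (Subtype.ext e)
      rw [← classInner_mul_conj_one] at this
      simp only [r2] at this
      exact_mod_cast this) (by rw [v2.vC_mul, zero_mul]) (by simp [v3, u3]) (by simp [v4, u4])
      (by simp [v5, u5])
  have := hP.inner_irr χ
  rw [show classInner (χ * φ : G → ℂ) χ = classInner (fun g => (χ : G → ℂ) g ^ 2) φ by
    simp only [classInner_def, r1, r2, Pi.mul_apply]
    exact congrArg _ (sum_congr rfl fun g _ => by ring), hq] at this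
  have : dg χ ∈ lP.map dg := List.mem_map_of_mem (Multiset.mem_coe.mp (Multiset.count_pos.mp (by
    rw [show Multiset.count _ _ = 1 by exact_mod_cast this.symm]; exact one_pos)))
  rw [gP, c] at this
  simp at this

theorem sharp (hG : Nat.card G = 95040) {α : Type*} [MulAction G α] [Finite α]
    (hα : Nat.card α = 12) (t3 : IsMultiplyPretransitive G α 3) : Sharp.IsSharp G α 5 := by
  classical
  obtain ⟨a⟩ : Nonempty α := (Nat.card_pos_iff.mp (by omega)).1
  obtain ⟨c, ψ, hψ⟩ := exists_irr_stab t3 (by omega) a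
  obtain ⟨x, hx⟩ := exists_syl (G := G) (p := 11) (by rw [hG]; norm_num) (by rw [hG]; norm_num)
  obtain ⟨w, hw⟩ := exists_syl (G := G) (p := 5) (by rw [hG]; norm_num) (by rw [hG]; norm_num)
  obtain ⟨ζ, hζ, ⟨D⟩⟩ := exists_data hx
  haveI : IsPretransitive G α :=
    is_one_pretransitive_iff.mp (isMultiplyPretransitive_of_le (n := 3) (by omega) (by omega))
  have hK : Nat.card (stabilizer G a) = 7920 := by
    have := (stabilizer G a).index_mul_card
    rw [index_stabilizer_of_transitive, hG, hα] at this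
    omega
  haveI := simple_of_sc ar11.1 (data hG hx hζ D hw).1 _ hK
  have ht : IsMultiplyPretransitive G α 5 :=
    (SubMulAction.ofStabilizer.isMultiplyPretransitive (n := 4) (a := a)).mpr
      (T11.sharp (G := stabilizer G a) hK (by omega) hψ).1
  refine ⟨ht, fun z => ?_⟩
  haveI := Fintype.ofFinite α
  have := (stabilizer G z).index_mul_card
  rw [index_stabilizer_of_transitive, hG, Nat.card_eq_fintype_card, Fintype.card_embedding_eq,
    ← Nat.card_eq_fintype_card, hα] at this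
  rw [Fintype.card_fin, show Nat.descFactorial 12 5 = 95040 from rfl] at this
  exact Subgroup.card_eq_one.mp (by omega)

theorem exists_sharp (hG : Nat.card G = 95040) :
    ∃ H : Subgroup G, H.index = 12 ∧ Sharp.IsSharp G (G ⧸ H) 5 := by
  obtain ⟨χ, h1, h2, h3, h4⟩ := square hG
  obtain ⟨H, hH, h⟩ := Norton.exists_perm_char χ.2 (conj_eq_of_nu (by rw [h2]; decide)) (n := 11)
    (by rw [← dg_cast, h1]) (by norm_num) h3 (by rw [h4]; exact one_ne_zero)
  have o3 := orbits_three h fun e => by rw [e, dg_one] at h1; omega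
  exact ⟨H, hH, sharp hG hH (multiply_of_orbits (n := 3) (hH.symm ▸ by decide : 3 ≤ H.index)
    (by rw [h4] at o3; exact_mod_cast o3))⟩

end CfsgLib.MathRec.T12
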