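import Mathlib
import Cfsg.Agent.Lib.ChTab.Must
import Cfsg.Agent.Lib.ChTab.Rows2

/-!
A simple group of order 244823040: the search for the principal `23`-block.
-/

set_option autoImplicit false

namespace CfsgLib.MathRec.T24

open CfsgLib.ChTab

/-- The possible degrees. -/
def Dg : List ℕ := [15456, 15180, 14168, 13662, 12880, 12672, 12420, 12144, 11880, 11385, 10626,
  10395, 10120, 9856, 9108, 8855, 8832, 8096, 7590, 7360, 7084, 6831, 6336, 6072, 5796, 5544, 5313,
  5060, 4830, 4554, 4048, 3840, 3795, 3542, 3520, 3312, 3036, 3024, 2772, 2760, 2530, 2277, 2024,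
  1771, 1760, 1540, 1518, 1288, 1265, 1242, 1035, 1024, 1012, 990, 770, 759, 736, 540, 528, 506,
  495, 483, 276, 264, 253, 252, 231, 230, 45, 23, 22, 12, 11, 1]

theorem chkDg : (divs 244823040 15646).all
    (fun d => !(vok 23 11 d && vok 11 10 d) || Dg.contains d) = true := by decide +kernel

/-- The non-exceptional rows. -/
def LX : List (ℕ × ℤ) := [(12672, -22), (10395, -22), (5544, 22), (3840, -22), (3520, 22),
  (1540, -22), (990, 22), (528, -22), (252, -22), (231, 22), (45, -22), (22, -22)]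

/-- The exceptional rows. -/
def LZ : List (ℕ × ℤ) := [(11880, 11), (9856, 11), (6336, -11), (3024, -11), (2772, 11),
  (1760, 11), (1024, 11), (770, -11), (540, -11), (495, 11), (264, -11), (12, 11), (11, -11)]

theorem chkX : ∀ d ∈ Dg, d ≠ 1 → ((vf 23 11 d).natAbs = 22 → (d, vf 23 11 d) ∈ LX) ∧
    ((vf 23 11 d).natAbs = 11 → (d, vf 23 11 d) ∈ LZ) := by decide +kernel

/-- The degrees allowed in the principal `7`-block. -/
noncomputable def pf7 (e d : ℕ) : Bool :=
  Nat.beq e 6 || Nat.beq d 990 || Nat.beq d 1035 || Nat.beq d 2024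

/-- The short form of a row. -/
def flat (r : ((ℕ × ℤ) × ℤ × Bool) × ℤ × Bool) : ℕ × ℤ × ℤ × Bool := (r.1.1.1, r.1.2.1, r.2)

/-- The distribution of a principal `q`-block among the blocks for 5 and 7. -/
noncomputable def two (q d5 : ℕ) (C5 : Cf) (L7 : List Cf) (f5 : ℕ → ℤ → Bool)
    (fin : ℕ → ℕ → List (ℕ × ℤ × ℤ × Bool) → Bool) (l : List (ℕ × ℤ)) : Bool :=
  covC eq0 (·.1) (·.2) 5 q C5 (Nat.beq d5) (fun r5 => !(r5.all fun r => f5 r.1.1 r.2.1) ||
    !qok 244823040 ((q - 1) * 16) 1 (400 * C5.2.1 * C5.2.1) (·.1.1) (·.1.2) (·.2.1) (·.2.1) r5 ||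
    L7.all fun C7 => covC (eqT eq0) (·.1.1) (·.1.2) 7 q C7 (pf7 C7.1) (fun r7 =>
      !qok 244823040 ((q - 1) * 36) 1 (49 * C7.1 * C7.1 * C7.2.1 * C7.2.1) (·.1.1.1) (·.1.1.2)
        (·.2.1) (·.2.1) r7 ||
      !qok 244823040 ((q - 1) * 24) 1 (140 * C5.2.1 * C7.1 * C7.2.1) (·.1.1.1) (·.1.1.2)
        (·.1.2.1) (·.2.1) r7 || fin C7.1 C7.2.1 (r7.map flat)) r5) l

/-- The options for 7. -/
def E7 : List (ℕ × ℕ) := [(3, 6), (3, 48), (3, 384), (6, 3), (6, 24), (6, 192)]

/-- The search for the principal `23`-block. -/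
noncomputable def g4 (k5 : ℕ) (Z : List (ℕ × ℤ)) (fin : ℕ → ℕ → List (ℕ × ℤ × ℤ × Bool) → Bool) :
    Bool :=
  frcC 244823040 5 [(4, k5)] fun L5 => frcC 244823040 7 E7 fun L7 => L5.all fun C5 =>
    Z.all fun z => renum 244823040 23 9 40826633 [(5544, 22), z, z] LX [fun d => d, vf 11 10]
      [(2, 10), (3, 3)] (two 23 5544 C5 L7 (fun _ _ => true) fin)

set_option maxRecDepth 100000

theorem chk192a : g4 192 (LZ.take 5) (fun _ _ _ => false) = true := by decide +kernel

theorem chk192b : g4 192 ((LZ.drop 5).take 3) (fun _ _ _ => false) = true := by decide +kernel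

theorem chk192c : g4 192 (LZ.drop 8) (fun _ _ _ => false) = true := by decide +kernel

end CfsgLib.MathRec.T24
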