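import Mathlib
import Cfsg.Agent.Lib.ChTab.Blk
import Cfsg.Agent.Lib.MathRec.V24Loc

/-!
A simple group of order 244823040: the common notation.
-/

set_option autoImplicit false

namespace CfsgLib.MathRec.T24

open Cfsg CfsgLib.Char CfsgLib.Block CfsgLib.DefectOne CfsgLib.DefectOne.B43 CfsgLib.Tuan
  CfsgLib.ChTab Subgroup Finset MulAction T11 T23 V24

/-- Elements of orders 23, 11, 5, 7 with their principal blocks. -/
structure Cx (G : Type*) [Group G] where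
  (x w u y : G)
  (a b c d : ℂ)
  hG : Nat.card G = 244823040
  hx : Syl 23 x
  hw : Syl 11 w
  hu : Syl 5 u
  hy : Syl 7 y
  ha : IsPrimitiveRoot a 23
  hb : IsPrimitiveRoot b 11
  hc : IsPrimitiveRoot c 5
  hd : IsPrimitiveRoot d 7
  A : PrinData 23 x a
  B : PrinData 11 w b
  C : PrinData 5 u c
  D : PrinData 7 y d

/-- Degree, `vv 5`, `vv 7`, membership in the principal `7`-block. -/
abbrev Rw := ℕ × ℤ × ℤ × Bool

/-- The principal `23`-block of `M24`. -/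
def R23 : List Rw := [(45, 0, -3, false), (45, 0, -3, false), (231, 4, 0, false),
  (231, 4, 0, false), (252, 8, 0, false), (770, 0, 0, false), (770, 0, 0, false),
  (990, 0, -3, true), (990, 0, -3, true), (3520, 0, -6, false), (5544, -4, 0, false),
  (10395, 0, 0, false)]

/-- The principal `11`-block of `M24`. -/
def R11 : List Rw := [(23, 12, 12, false), (45, 0, -3, false), (45, 0, -3, false),
  (252, 8, 0, false), (483, -8, 0, false), (1035, 0, -6, false), (1035, 0, -6, false),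
  (1035, 0, -6, true), (3312, -12, 6, false), (5796, 4, 0, false)]

/-- Another candidate for the principal `11`-block. -/
def R11' : List Rw := [(45, 0, -3, false), (45, 0, -3, false), (230, 0, -6, false),
  (230, 0, -6, false), (252, 8, 0, false), (483, -8, 0, false), (1035, 0, -6, false),
  (1035, 0, -6, true), (4830, 0, 0, false), (5796, 4, 0, false)]

variable {G : Type*} [Group G] [Finite G]

theorem exists_cx (hG : Nat.card G = 244823040) : Nonempty (Cx G) := by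
  obtain ⟨x, hx⟩ := exists_syl (G := G) (p := 23) (by rw [hG]; norm_num) (by rw [hG]; norm_num)
  obtain ⟨w, hw⟩ := exists_syl (G := G) (p := 11) (by rw [hG]; norm_num) (by rw [hG]; norm_num)
  obtain ⟨u, hu⟩ := exists_syl (G := G) (p := 5) (by rw [hG]; norm_num) (by rw [hG]; norm_num)
  obtain ⟨y, hy⟩ := exists_syl (G := G) (p := 7) (by rw [hG]; norm_num) (by rw [hG]; norm_num)
  obtain ⟨a, ha, ⟨A⟩⟩ := exists_data hx
  obtain ⟨b, hb, ⟨B⟩⟩ := exists_data hw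
  obtain ⟨c, hc, ⟨C⟩⟩ := exists_data hu
  obtain ⟨d, hd, ⟨D⟩⟩ := exists_data hy
  exact ⟨⟨x, w, u, y, a, b, c, d, hG, hx, hw, hu, hy, ha, hb, hc, hd, A, B, C, D⟩⟩

namespace Cx

variable (c : Cx G)

/-- The row of a character. -/
noncomputable def row (χ : IrrCharacter G) : Rw := (dg χ, vv 5 c.u χ, vv 7 c.y χ, inB c.D χ)

/-- `R` lists the rows of the non-principal characters of the principal `23`-block. -/
def Is23 (R : List Rw) : Prop := (R : Multiset Rw) = (Bk c.A).val.map c.row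

/-- `R` lists the rows of the non-principal characters of the principal `11`-block. -/
def Is11 (R : List Rw) : Prop := (R : Multiset Rw) = (Bk c.B).val.map c.row

variable [IsSimpleGroup G]

theorem v23 (χ : IrrCharacter G) : vok 23 11 (dg χ) = true ∧ vv 23 c.x χ = vf 23 11 (dg χ) := by
  obtain ⟨h1, h2⟩ := loc23 c.hG c.hx
  exact h2 ▸ vf_of_sc h1 (by omega) χ

theorem v11 (χ : IrrCharacter G) : vok 11 10 (dg χ) = true ∧ vv 11 c.w χ = vf 11 10 (dg χ) := by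
  obtain ⟨h1, h2⟩ := loc11 c.hG c.hw
  exact h2 ▸ vf_of_sc h1 (by omega) χ

theorem mem23 {χ : IrrCharacter G} : χ ∈ Bk c.A ↔ χ ≠ irrOne G ∧ ¬ 23 ∣ dg χ :=
  mem_Bk.trans (and_congr_right fun _ => ⟨not_dvd_of_b0 c.A c.hx c.ha, fun h =>
    (or_assoc.mpr (bz_of_sc c.A (loc23 c.hG c.hx).1 χ)).resolve_right h⟩)

theorem mem11 {χ : IrrCharacter G} : χ ∈ Bk c.B ↔ χ ≠ irrOne G ∧ ¬ 11 ∣ dg χ :=
  mem_Bk.trans (and_congr_right fun _ => ⟨not_dvd_of_b0 c.B c.hw c.hb, fun h =>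
    (or_assoc.mpr (bz_of_sc c.B (loc11 c.hG c.hw).1 χ)).resolve_right h⟩)

theorem Is23.mem {R : List Rw} (h : c.Is23 R) {χ : IrrCharacter G} (h1 : χ ≠ irrOne G)
    (h2 : ¬ 23 ∣ dg χ) : c.row χ ∈ R :=
  Multiset.mem_coe.mp (h ▸ Multiset.mem_map_of_mem _ (c.mem23.mpr ⟨h1, h2⟩))

theorem Is11.mem {R : List Rw} (h : c.Is11 R) {χ : IrrCharacter G} (h1 : χ ≠ irrOne G)
    (h2 : ¬ 11 ∣ dg χ) : c.row χ ∈ R :=
  Multiset.mem_coe.mp (h ▸ Multiset.mem_map_of_mem _ (c.mem11.mpr ⟨h1, h2⟩))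

/-- The principal `5`-block. -/
theorem five : ∃ a b d e : IrrCharacter G, (Bk c.C).val = {a, b, d, e} ∧
    (dg a = 1771 ∧ vv 5 c.u a = 4) ∧ (dg b = 2024 ∧ vv 5 c.u b = -4) ∧
    (dg d = 5544 ∧ vv 5 c.u d = -4) ∧ dg e = 5796 ∧ vv 5 c.u e = 4 := by
  obtain ⟨l, h1, h2⟩ := exists_list_map (loc5 c.hG c.hu c.hc c.C).2.2.rows
  obtain ⟨a, l, rfl, ha, h2⟩ := List.map_eq_cons_iff.mp h2
  obtain ⟨b, l, rfl, hb, h2⟩ := List.map_eq_cons_iff.mp h2
  obtain ⟨d, l, rfl, hd, h2⟩ := List.map_eq_cons_iff.mp h2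
  obtain ⟨e, l, rfl, he, h2⟩ := List.map_eq_cons_iff.mp h2
  obtain rfl := List.map_eq_nil_iff.mp h2
  exact ⟨a, b, d, e, h1.symm, Prod.ext_iff.mp ha, Prod.ext_iff.mp hb, Prod.ext_iff.mp hd,
    Prod.ext_iff.mp he⟩

theorem not_dvd57 : ¬ 7 ∣ kk 5 c.u := by
  rcases (loc5 c.hG c.hu c.hc c.C).2.1 with h | h <;> rw [h] <;> decide

/-- The character of degree 2024 in the principal blocks for 5 and 7. -/
theorem exists_2024 : ∃ b : IrrCharacter G, dg b = 2024 ∧ vv 5 c.u b = -4 ∧ vv 7 c.y b = 6 ∧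
    b ∈ Bk c.D := by
  classical
  obtain ⟨χ, h1, h2, h3, h4⟩ := exists_neg c.C c.D c.hu c.hy c.hd (by
    rw [card_CC_eq c.hu]
    exact fun e => c.not_dvd57 ((by norm_num : Nat.Coprime 7 5).dvd_of_dvd_mul_left e))
  have h5 := (loc5 c.hG c.hu c.hc c.C).2.2.mem (mem_Bk.mpr ⟨h1, h2⟩)
  have h6 := not_dvd_of_b0 c.D c.hy c.hd h3
  have h7 := cdrow_of c.D c.hy c.hd h3
  have h8 := loc7 c.hG c.hy
  simp only [List.mem_cons, Prod.mk.injEq, List.not_mem_nil, or_false] at h5 h8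
  have h9 : dg χ = 2024 ∧ vv 5 c.u χ = -4 := by omega
  simp only [cdrow, scrow', h9.1, Bool.or_eq_true, Bool.and_eq_true, beq_iff_eq] at h7
  exact ⟨χ, h9.1, h9.2, by omega, mem_Bk.mpr ⟨h1, h3⟩⟩

end Cx

end CfsgLib.MathRec.T24
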