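import Mathlib
import Cfsg.Agent.Lib.MathRec.T24a
import Cfsg.Agent.Lib.MathRec.T24c

/-!
A simple group of order 244823040: the searches for the principal blocks for 23 and 11.
-/

set_option autoImplicit false

namespace CfsgLib.MathRec.T24

open CfsgLib.ChTab

/-- The degrees prime to 11. -/
def dI (R : List Rw) : List ℕ := (R.filter (·.1 % 11 != 0)).map (·.1)

/-- The rows of degree prime to 11 lie in a given list. -/
def okI (V R : List Rw) : Bool := R.all fun r => r.1 % 11 == 0 || V.contains r

def V48 : List Rw := [(45, 0, -24, false), (252, 8, 0, false), (3840, 0, 24, false)]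

def V24 : List Rw := (45, 0, 18, false) :: V48

/-- The small rows of degree divisible by 11. -/
def S11 : List (ℕ × ℤ) := [(990, 18), (990, -24), (770, 0), (759, 18), (759, -24), (528, -24),
  (506, 12), (506, -72), (253, 6), (253, -36), (231, 0), (22, 6)]

/-- The result of the search for the principal `23`-block. -/
def fin4 (e k : ℕ) (R : List Rw) : Bool :=
  if e = 3 then k == 6 && R23.isPerm R ||
    k == 48 && (dI R).isPerm [45, 45, 252, 252, 3840] && okI V48 R
  else k % 2 == 0 && (R.map (·.1)).count 22 == 1 &&
    (R.all fun r => Nat.ble 22 r.1 && (r.1 != 22 || (r.2.1 == 8 || r.2.1 == -12) && r.2.2.2)) &&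
    (!((R.map (·.1)).contains 231 && (R.map (·.1)).contains 252) ||
      k == 24 && (dI R).isPerm [45, 252, 3840] && okI V24 R &&
        R.all fun r => Nat.blt 990 r.1 || r.1 % 11 != 0 || S11.contains (r.1, r.2.2.1))

/-- The rows of degree divisible by 23. -/
def LJ : List (ℕ × ℤ) := [(15456, 10), (12880, -10), (12420, 10), (8832, -10), (7360, 10),
  (5796, -10), (4830, 10), (3312, 10), (2760, -10), (1288, 10), (1242, -10), (1035, 10),
  (736, -10), (483, -10), (276, 10), (230, -10), (23, 10)]

theorem chkJ : ∀ d ∈ Dg, d % 23 = 0 → d % 11 ≠ 0 → (d, vf 11 10 d) ∈ LJ := by decide +kernel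

/-- The search for the principal `11`-block. -/
noncomputable def g5 (e k : ℕ) (I : List ℕ) (V : List Rw) (fin : List Rw → Bool) : Bool :=
  frcC 244823040 5 [(4, 12)] fun L5 => frcC 244823040 7 [(e, k)] fun L7 => L5.all fun C5 =>
    renum 244823040 11 (9 - I.length) 37968953 ((5796, -10) :: I.map fun d => (d, vf 11 10 d)) LJ
      [fun d => d] [(2, 10), (3, 3)] (two 11 5796 C5 L7
        (fun d v => d % 23 == 0 || V.any fun r => r.1 == d && r.2.1 == v)
        fun _ _ R => !(R.all fun r => r.1 % 23 == 0 || V.contains r) || fin R)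

/-- The alternating square of a character of degree 45 has no decomposition. -/
noncomputable def no45 (R : List Rw) : Bool :=
  !R.contains (45, 0, 18, false) &&
    enumQ (S11 ++ ((R.filter fun r => Nat.ble r.1 990).map fun r => (r.1, r.2.2.1)).dedup)
      [(fun r => r.1, 0, 990)] [(fun r => vf 23 11 r.1, 0, 22), (fun r => vf 11 10 r.1, 0, 0),
        (fun r => r.2, 0, 60)] [] [] (fun _ => false) 50

theorem chkV : ∀ d ∈ Dg, d % 23 = 0 → d % 11 = 0 → d ≤ 990 →
    ∀ v ∈ vls 7 (mkCf 244823040 7 (6, 24)) d, (d, v) ∈ S11 := by decide +kernel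

set_option maxRecDepth 100000

theorem chk12 : g4 12 LZ fin4 = true := by decide +kernel

theorem chk6 : g5 3 6 [45, 45, 252] [(45, 0, -3, false), (252, 8, 0, false)]
    (fun R => R11.isPerm R || R11'.isPerm R) = true := by decide +kernel

theorem chk48 : g5 3 48 [45, 45, 252, 252, 3840] V48 (fun _ => false) = true := by decide +kernel

theorem chk24 : g5 6 24 [45, 252, 3840] V24 no45 = true := by decide +kernel

theorem chk7 : [6, 48, 384].all (rcheck (divs 244823040 15646) 244823040 7 Dg.contains
    (fun A => !A.2.2.contains (2024, 6) || A.2.2.all fun r => pf7 3 r.1) 3) = true := by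
  decide +kernel

end CfsgLib.MathRec.T24
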