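import Mathlib
import Cfsg.Agent.Lib.MathRec.T24b

/-!
A simple group of order 244823040: the principal blocks for 23 and 11.
-/

set_option autoImplicit false

namespace CfsgLib.MathRec.T24

open Cfsg CfsgLib.Char CfsgLib.Block CfsgLib.DefectOne CfsgLib.DefectOne.B43 CfsgLib.Tuan
  CfsgLib.ChTab Subgroup Finset MulAction T11 T23 V24

variable {G : Type*} [Group G] [Finite G] [IsSimpleGroup G]

namespace Cx

variable (c : Cx G)

include c in
theorem dg_mem (χ : IrrCharacter G) : dg χ ∈ Dg := by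
  have := List.all_eq_true.mp chkDg _ (mem_divs_dg c.hG (by norm_num) χ)
  rwa [(c.v23 χ).1, (c.v11 χ).1, Bool.and_self, Bool.not_true, Bool.false_or,
    List.contains_iff_mem] at this

theorem pf7_of {χ : IrrCharacter G} (h : χ ∈ Bk c.D) : pf7 (ee c.y) (dg χ) = true := by
  have h1 := loc7 c.hG c.hy
  by_cases he : ee c.y = 6
  · rw [he]; rfl
  simp only [List.mem_cons, Prod.mk.injEq, List.not_mem_nil, or_false] at h1
  have h2 : ee c.y = 3 := by omega
  obtain ⟨A, a, b⟩ := rcheck_sound (hna c.hG) c.hy c.hd c.D c.hG (S := 15646) (by norm_num)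
    (fun χ _ _ => List.contains_iff_mem.mpr (c.dg_mem χ))
    (h2 ▸ List.all_eq_true.mp chk7 (kk 7 c.y) (by simp; omega))
  obtain ⟨ψ, e1, -, e2, e3⟩ := c.exists_2024
  have := a.mem e3
  rw [e1, e2] at this
  rw [List.contains_iff_mem.mpr this, Bool.not_true, Bool.false_or] at b
  exact h2 ▸ List.all_eq_true.mp b _ (a.mem h)

theorem two_sound {q : ℕ} [hq : Fact q.Prime] {z : G} {ξ : ℂ} (E : PrinData q z ξ) (hz : SC q z)
    (hξ : IsPrimitiveRoot ξ q) (q5 : 5 ≠ q) (q7 : 7 ≠ q) {d5 : ℕ}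
    (h5 : ∀ χ ∈ Bk c.C, χ ∈ Bk E → d5 = dg χ) {L7 : List Cf}
    (hL : mkCf 244823040 7 (ee c.y, kk 7 c.y) ∈ L7) {f5 : ℕ → ℤ → Bool}
    (hf : ∀ χ ∈ Bk E, f5 (dg χ) (vv 5 c.u χ) = true) {fin : ℕ → ℕ → List Rw → Bool}
    {l : List (ℕ × ℤ)} (hl : (l : Multiset (ℕ × ℤ)) = (Bk E).val.map fun χ => (dg χ, vv q z χ))
    (h : two q d5 (mkCf 244823040 5 (4, kk 5 c.u)) L7 f5 fin l = true) :
    ∃ R : List Rw, (R : Multiset Rw) = (Bk E).val.map c.row ∧ fin (ee c.y) (kk 7 c.y) R = true := by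
  have e5 := (loc5 c.hG c.hu c.hc c.C).1
  have k1 := kk_of_sc hz
  have n1 : ∀ {p : ℕ} [Fact p.Prime] {v : G}, Syl p v → ¬ q ∣ kk p v := fun {p} hp _ hv e =>
    hp.out.ne_one (Nat.dvd_one.mp (k1 ▸ dvd_kk_symm hv hz.syl e))
  have n2 : ∀ {p : ℕ}, p.Prime → p ≠ q → ¬ p ∣ Nat.card (CC z) := fun hp a e =>
    a ((Nat.prime_dvd_prime_iff_eq hp hq.out).mp (hz.card_CC ▸ e))
  have n3 : ¬ 7 ∣ Nat.card (CC c.u) := by
    rw [card_CC_eq c.hu]
    exact fun e => c.not_dvd57 ((by norm_num : Nat.Coprime 7 5).dvd_of_dvd_mul_left e)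
  obtain ⟨r5, a1, a2⟩ := covC_of c.C E c.hu hz.syl c.hc hξ (by decide) q5 (n1 c.hu)
    (r := fun χ => (dg χ, vv q z χ)) (d := (·.1)) (wt := (·.2)) (fun _ => rfl) (fun _ => rfl) (fun χ ψ e => Prod.ext (dg_eq_of_reg e)
      (eq_of_reg E hz.syl hξ (n2 Nat.prime_five q5) e).1) eq0_iff hl
    (fun χ a b => Nat.beq_eq.mpr (h5 χ a b)) c.hG (e5 ▸ h)
  rw [List.all_eq_true.mpr fun r hr => by
      obtain ⟨χ, a, rfl⟩ := Multiset.mem_map.mp (a1 ▸ Multiset.mem_coe.mpr hr)
      exact hf χ a,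
    qok_sound E hz.syl c.hu c.hu (d := (·.1.1)) (wt := (·.1.2)) (u := (·.2.1)) (v := (·.2.1))
      (c := (q - 1) * 16) (m := 400 * _ * _) (fun _ => rfl) (fun _ => rfl) (fun _ => rfl)
      (fun _ => rfl) a1 c.hG rfl k1.symm (dvd_of_eq ?_), Bool.not_true,
    Bool.false_or, Bool.false_or] at a2
  swap
  · simp only [mkCf, e5]; ring
  obtain ⟨r7, b1, b2⟩ := covC_of c.D E c.hy hz.syl c.hd hξ (by decide) q7 (n1 c.hy)
    (r := fun χ => ((dg χ, vv q z χ), vv 5 c.u χ, inB c.C χ)) (d := (·.1.1)) (wt := (·.1.2))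
    (fun _ => rfl) (fun _ => rfl) (fun χ ψ e => Prod.ext (Prod.ext (dg_eq_of_reg e)
      (eq_of_reg E hz.syl hξ (n2 T23.f7.out q7) e).1) (Prod.ext (eq_of_reg c.C c.hu c.hc n3 e).1
        (eq_of_reg c.C c.hu c.hc n3 e).2)) (eqT_iff eq0_iff) a1
    (fun χ a _ => c.pf7_of a) c.hG (List.all_eq_true.mp a2 _ hL)
  rw [qok_sound E hz.syl c.hy c.hy (d := (·.1.1.1)) (wt := (·.1.1.2)) (u := (·.2.1))
      (v := (·.2.1)) (c := (q - 1) * 36) (m := 49 * _ * _ * _ * _) (fun _ => rfl) (fun _ => rfl)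
      (fun _ => rfl) (fun _ => rfl) b1 c.hG rfl k1.symm (dvd_of_eq ?_),
    qok_sound E hz.syl c.hu c.hy (d := (·.1.1.1)) (wt := (·.1.1.2)) (u := (·.1.2.1))
      (v := (·.2.1)) (c := (q - 1) * 24) (m := 140 * _ * _ * _) (fun _ => rfl) (fun _ => rfl)
      (fun _ => rfl) (fun _ => rfl) b1 c.hG rfl k1.symm (dvd_of_eq ?_), Bool.not_true,
    Bool.false_or, Bool.false_or] at b2
  · exact ⟨_, by rw [← Multiset.map_coe, b1, Multiset.map_map]; rfl, b2⟩
  · simp only [mkCf, e5]; ring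
  · simp only [mkCf]; ring

theorem g4_sound {Z : List (ℕ × ℤ)} {fin : ℕ → ℕ → List Rw → Bool}
    (h : g4 (kk 5 c.u) Z fin = true) (hZ : (dg (c.A.Y 1), vv 23 c.x (c.A.Y 1)) ∈ Z) :
    ∃ R, c.Is23 R ∧ fin (ee c.y) (kk 7 c.y) R = true := by
  classical
  obtain ⟨s, e⟩ := loc23 c.hG c.hx
  obtain ⟨a, b, d, f, h0, ⟨h1, -⟩, ⟨h2, -⟩, ⟨h3, -⟩, h4, -⟩ := c.five
  rw [g4, frcC_eq, frcC_eq, List.map_singleton, List.all_cons, List.all_nil, Bool.and_true] at h
  have hd : d ∈ c.A.X.erase (irrOne G) := by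
    have a1 : d ≠ irrOne G := fun e => by rw [e, dg_one] at h3; omega
    refine mem_erase.mpr ⟨a1, (mem_Bk.mp (c.mem23.mpr ⟨a1, by omega⟩)).2.resolve_right fun a2 => ?_⟩
    have a3 := vv_Y c.A c.hx c.ha a2
    have := c.A.ε_sign
    rw [(c.v23 d).2, h3, e, show vf 23 11 5544 = 22 from rfl] at a3
    omega
  obtain ⟨l, a1, a2⟩ := renum_sound (D := c.A) s c.ha c.hG (List.all_eq_true.mp h _ hZ)
    (M := ((c.A.X.erase (irrOne G)).erase d).val.map fun χ => (dg χ, vv 23 c.x χ)) (by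
      rw [rows_split c.A c.hx c.ha, e, ← Multiset.cons_erase (mem_val.mpr hd), Multiset.map_cons,
        (c.v23 d).2, h3, Multiset.cons_add, ← Multiset.add_cons]
      rfl) (by
      simp only [Multiset.forall_mem_map_iff, mem_val, mem_erase]
      intro χ ⟨_, a, b⟩
      have := vv_X c.A c.hx b
      have := c.A.δ_sign χ b
      rw [(c.v23 χ).2] at *
      exact (chkX _ (c.dg_mem χ) (one_lt_dg (hna c.hG) a).ne').1 (by omega))
    (by rw [Multiset.card_map, card_val, card_erase_of_mem hd, card_erase_of_mem c.A.one_mem,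
      c.A.card_X, card_U c.A c.hx, e])
    (List.forall_mem_cons.mpr ⟨fun A hA => hA.rsum_id c.hx c.ha, List.forall_mem_singleton.mpr
      fun A hA => (loc11 c.hG c.hw).2 ▸ hA.rsum_sc c.hx c.ha (loc11 c.hG c.hw).1
        (by rw [(loc11 c.hG c.hw).2]; decide) (by decide)⟩) (by simp [Nat.prime_two, Nat.prime_three])
    (by decide) {a, b, f} (by simp [h1, h2, h4]) (by
      rw [sum_insert, Finset.sum_pair, h1, h2, h4]
      · norm_num
      · exact fun e => by rw [e] at h2; omega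
      · simp only [mem_insert, mem_singleton, not_or]
        exact ⟨fun e => by rw [e] at h1; omega, fun e => by rw [e] at h1; omega⟩)
  refine c.two_sound c.A s c.ha (by decide) (by decide) (fun χ a' b' => ?_)
    (List.mem_map_of_mem (loc7 c.hG c.hy)) (fun _ _ => rfl) a1 a2
  have := (c.mem23.mp b').2
  rw [← mem_val, h0] at a'
  simp only [Multiset.insert_eq_cons, Multiset.mem_cons, Multiset.mem_singleton] at a'
  rcases a' with rfl | rfl | rfl | rfl <;> omega

theorem s4 : kk 5 c.u = 12 ∧ ∃ R, c.Is23 R ∧ fin4 (ee c.y) (kk 7 c.y) R = true := by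
  have hZ : (dg (c.A.Y 1), vv 23 c.x (c.A.Y 1)) ∈ LZ := by
    have := vv_Y c.A c.hx c.ha (Y_mem_Ys c.A 1)
    have := c.A.ε_sign
    rw [(loc23 c.hG c.hx).2, (c.v23 _).2] at *
    exact (chkX _ (c.dg_mem _) (one_lt_dg (hna c.hG) (Y_ne_one c.A 1)).ne').2 (by omega)
  rcases (loc5 c.hG c.hu c.hc c.C).2.1 with h | h
  · exact ⟨h, c.g4_sound (h ▸ chk12) hZ⟩
  rw [show LZ = LZ.take 5 ++ ((LZ.drop 5).take 3 ++ LZ.drop 8) from rfl, List.mem_append,
    List.mem_append] at hZ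
  rcases hZ with hZ | hZ | hZ
  · obtain ⟨_, _, ⟨⟩⟩ := c.g4_sound (h ▸ chk192a) hZ
  · obtain ⟨_, _, ⟨⟩⟩ := c.g4_sound (h ▸ chk192b) hZ
  · obtain ⟨_, _, ⟨⟩⟩ := c.g4_sound (h ▸ chk192c) hZ

theorem mem23_of {χ : IrrCharacter G} (h : χ ∈ Bk c.B) (h' : dg χ % 23 ≠ 0) {R V : List Rw}
    (hR : c.Is23 R) (hV : okI V R = true) : c.row χ ∈ V := by
  have := List.all_eq_true.mp hV _ (Is23.mem c hR (c.mem11.mp h).1
    fun e => h' (Nat.mod_eq_zero_of_dvd e))
  have h2 := (c.mem11.mp h).2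
  simp only [Bool.or_eq_true, beq_iff_eq, List.contains_iff_mem] at this
  exact this.resolve_left fun e => h2 (Nat.dvd_of_mod_eq_zero e)

open Classical in
theorem dI_eq {I : List ℕ} {R : List Rw} (hR : c.Is23 R) (hI : (dI R).isPerm I = true) :
    (I : Multiset ℕ) = ((Bk c.B).filter (¬ dg · % 23 = 0)).val.map dg := by
  rw [← Multiset.coe_eq_coe.mpr (List.isPerm_iff.mp hI), dI, ← Multiset.map_coe,
    show (R.filter (·.1 % 11 != 0) : Multiset Rw) = Multiset.filter (·.1 % 11 ≠ 0) R by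
      rw [Multiset.filter_coe]; congr 2; ext; simp [bne, Bool.beq_eq_decide_eq], hR,
    Multiset.filter_map, Multiset.map_map, ← filter_val]
  refine congrArg (fun s : Finset _ => s.val.map dg) (Finset.ext fun χ => ?_)
  simp only [mem_filter, c.mem11, c.mem23, Function.comp_apply, row, Nat.dvd_iff_mod_eq_zero]
  tauto

theorem g5_sound {I : List ℕ} {V R : List Rw} {fin : List Rw → Bool}
    (h : g5 (ee c.y) (kk 7 c.y) I V fin = true) (hR : c.Is23 R) (hI : (dI R).isPerm I = true)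
    (hV : okI V R = true) : ∃ R', c.Is11 R' ∧ fin R' = true := by
  classical
  obtain ⟨s, e⟩ := loc11 c.hG c.hw
  obtain ⟨a, b, d, f, h0, ⟨h1, -⟩, ⟨h2, -⟩, ⟨h3, -⟩, h4, -⟩ := c.five
  rw [g5, frcC_eq, frcC_eq, List.map_singleton, List.all_cons, List.all_nil, Bool.and_true,
    ← c.s4.1] at h
  have hf : f ∈ (Bk c.B).filter (dg · % 23 = 0) := mem_filter.mpr
    ⟨c.mem11.mpr ⟨fun e => by rw [e, dg_one] at h4; omega, by omega⟩, by omega⟩
  have hI' := c.dI_eq hR hI
  obtain ⟨l, a1, a2⟩ := renum_sound (D := c.B) s c.hb c.hG h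
    (M := (((Bk c.B).filter (dg · % 23 = 0)).erase f).val.map fun χ => (dg χ, vv 11 c.w χ)) (by
      rw [← Multiset.cons_coe, ← Multiset.map_coe, hI', Multiset.map_map, Multiset.add_cons,
        ← Multiset.cons_add, show (5796, -10) = (dg f, vv 11 c.w f) by rw [(c.v11 f).2, h4]; rfl,
        ← Multiset.map_cons (fun χ => (dg χ, vv 11 c.w χ)), erase_val,
        Multiset.cons_erase (mem_val.mpr hf), filter_val, filter_val]
      simp only [Function.comp_def, ← (c.v11 _).2]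
      rw [← Multiset.map_add, Multiset.filter_add_not]) (by
      simp only [Multiset.forall_mem_map_iff, mem_val, mem_erase, mem_filter, c.mem11]
      intro χ ⟨_, a, b⟩
      rw [(c.v11 χ).2]
      exact chkJ _ (c.dg_mem χ) b fun e => a.2 (Nat.dvd_of_mod_eq_zero e)) (by
      have a1 := card_Bk c.B c.hw c.hb
      have a2 := congrArg Multiset.card hI'
      have a3 := card_filter_add_card_filter_not (s := Bk c.B) (dg · % 23 = 0)
      rw [Multiset.coe_card, Multiset.card_map, card_val] at a2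
      rw [Multiset.card_map, card_val, card_erase_of_mem hf]
      rw [e] at a1
      omega)
    (List.forall_mem_singleton.mpr fun A hA => hA.rsum_id c.hw c.hb)
    (by simp [Nat.prime_two, Nat.prime_three]) (by decide) {a, b, d} (by simp [h1, h2, h3]) (by
      rw [sum_insert, Finset.sum_pair, h1, h2, h3]
      · norm_num
      · exact fun e => by rw [e] at h2; omega
      · simp only [mem_insert, mem_singleton, not_or]
        exact ⟨fun e => by rw [e] at h1; omega, fun e => by rw [e] at h1; omega⟩)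
  obtain ⟨R', b1, b2⟩ := c.two_sound c.B s c.hb (by decide) (by decide) (fun χ a' b' => by
      have := (c.mem11.mp b').2
      rw [← mem_val, h0] at a'
      simp only [Multiset.insert_eq_cons, Multiset.mem_cons, Multiset.mem_singleton] at a'
      rcases a' with rfl | rfl | rfl | rfl <;> omega) (List.mem_singleton_self _)
    (fun χ hχ => by
      simp only [Bool.or_eq_true, beq_iff_eq, List.any_eq_true, Bool.and_eq_true,
        or_iff_not_imp_left]
      exact fun e => ⟨_, c.mem23_of hχ e hR hV, rfl, rfl⟩) a1 a2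
  rw [List.all_eq_true.mpr fun r hr => by
    obtain ⟨χ, hχ, rfl⟩ := Multiset.mem_map.mp (b1 ▸ Multiset.mem_coe.mpr hr)
    simp only [Bool.or_eq_true, beq_iff_eq, List.contains_iff_mem, or_iff_not_imp_left]
    exact fun e => c.mem23_of hχ e hR hV] at b2
  exact ⟨R', b1, b2⟩

end Cx

end CfsgLib.MathRec.T24
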