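import Mathlib
import Cfsg.Agent.Lib.MathRec.T24d

/-!
A simple group of order 244823040: two impossible configurations.
-/

set_option autoImplicit false

namespace CfsgLib.MathRec.T24

open Cfsg CfsgLib.Char CfsgLib.Block CfsgLib.DefectOne CfsgLib.DefectOne.B43 CfsgLib.Tuan
  CfsgLib.ChTab Subgroup Finset MulAction T11 T23 V24

theorem card_filter_eq {β : Type*} (S : Finset β) (f : β → ℕ) (d : ℕ) :
    (S.filter (f · = d)).card = (S.val.map f).count d := by
  rw [Multiset.count_map, ← card_val, filter_val]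
  simp only [eq_comm]

theorem chkS : ∀ S ∈ shp 5829120 7 3 6, S.x 7 45 ≠ -3 ∧
    (S.y 7 45 = -3 → S.t = 2 ∧ S.nx = 3 ∧ S.a = 6 ∨ S.t = 6) := by decide +kernel

/-- The rows that can occur in the `7`-block of the characters of degree 45. -/
def LB : List (ℕ × ℤ) := (Dg.filter (· % 253 = 0)).flatMap (fun d => [(d, 6), (d, -6)]) ++
  [(3520, -6), (1035, -6), (230, -6)]

theorem chkB : ∀ n ∈ [0, 1, 2, 3], enumQ LB [(fun _ => 1, 0, n)]
    [(fun r => vf 23 11 r.1 * r.2, 0, -132), (fun r => vf 11 10 r.1 * r.2, 0, 60),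
      (fun r => r.1 * r.2, 0, 270)] [] []
    (fun l => [(230, -6), (3520, -6), (3795, 6)].isPerm l) 5 = true := by decide +kernel

variable {G : Type*} [Group G] [Finite G]

section
variable {p : ℕ} [hp : Fact p.Prime] {x : G}

theorem rel_int {hs : Syl p x} {B X Y : Finset (IrrCharacter G)} {S : Sh} (h : BD hs B S X Y)
    (f : IrrCharacter G → ℤ) (hf : ∀ g ∈ AA p x, ∑ χ, (f χ : ℂ) * (χ : G → ℂ) g = 0) :
    ∑ χ ∈ X, f χ * vv p x χ + ∑ χ ∈ Y, f χ * vv p x χ = 0 := by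
  classical
  have := h.rel (fun χ => f χ) fun i y hy => hf _ (hs.pow_mul_mem_AA i.ne_zero hy)
  rw [show B = X ∪ Y by ext χ; simp [h.mem], sum_union h.dj] at this
  exact_mod_cast this

theorem sum_cv_mul {s g : G} (h : Ratl s) (hg : orderOf g ≠ orderOf s) :
    ∑ χ : IrrCharacter G, (cv s χ : ℂ) * (χ : G → ℂ) g = 0 := by
  rw [← column_orthogonality_of_not_isConj (not_isConj_of_orderOf hg)]
  exact sum_congr rfl fun χ _ => by rw [h.conj, cv_cast h, mul_comm]

theorem pairN_sing (hs : Syl p x) (hp2 : p ≠ 2) (he : Odd (ee x)) {s g : G} (h1 : s * s = 1)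
    (hg : g ∈ AA p x) : pairN s s g = 0 := by
  obtain ⟨ζ, -, ⟨D⟩⟩ := exists_data hs
  refine pairN_eq_zero fun u hu hu' => ?_
  obtain ⟨n, hn⟩ := hg.2
  have a1 : orderOf (g ^ n) = p := by
    rw [orderOf_pow, hn, Nat.gcd_mul_left_left, Nat.mul_div_cancel _ (Nat.pos_of_ne_zero fun e =>
      (orderOf_pos g).ne' (by rw [hn, e, mul_zero]))]
  have a2 := syl_of_orderOf hs a1
  obtain ⟨ξ, -, ⟨E⟩⟩ := exists_data a2
  have h3 : (g ^ n)⁻¹ = (g ^ n) ^ ((-1 : (ZMod p)ˣ) : ZMod p).val := by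
    rw [inv_eq_iff_mul_eq_one, ← pow_succ', ← pow_zero (g ^ n)]
    exact a2.pow_eq_of_natCast_eq (by simp)
  have h4 := (E.mem_U (-1)).mpr (isConj_iff.mpr
    ⟨u, h3 ▸ inverts_of_pair h1 h1 hu hu' (npow_mem_zpowers g n)⟩)
  have h5 := Subgroup.orderOf_dvd_natCard _ h4
  rw [card_U E a2, ← orderOf_units, Units.val_neg, Units.val_one, orderOf_neg_one,
    ZMod.ringChar_zmod_n, if_neg hp2, ee_eq a2 hs] at h5
  exact Nat.not_even_iff_odd.mpr he (even_iff_two_dvd.mpr h5)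

end

variable [IsSimpleGroup G]

namespace Cx

variable (c : Cx G)

theorem t45 (he : ee c.y = 6) (hk : kk 7 c.y = 24) {R R' : List Rw} (h23 : c.Is23 R)
    (hI : (dI R).isPerm [45, 252, 3840] = true) (hV : okI V24 R = true)
    (hS : ∀ r ∈ R, r.1 ≤ 990 → r.1 % 11 = 0 → (r.1, r.2.2.1) ∈ S11) (h11 : c.Is11 R')
    (h : no45 R' = true) : False := by
  classical
  have := Fintype.ofFinite G
  have a1 := card_filter_eq ((Bk c.B).filter (¬ dg · % 23 = 0)) dg 45
  rw [← c.dI_eq h23 hI] at a1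
  obtain ⟨χ, a2⟩ := card_eq_one.mp a1
  have a3 : ∀ ψ, ψ = χ ↔ dg ψ = 45 := fun ψ => by
    rw [← mem_singleton, ← a2, mem_filter, mem_filter, c.mem11, and_iff_right_iff_imp]
    exact fun e => ⟨⟨fun e' => by rw [e', dg_one] at e; omega, by omega⟩, by omega⟩
  have d : dg χ = 45 := (a3 χ).mp rfl
  have n1 : χ ≠ irrOne G := fun e => by rw [e, dg_one] at d; omega
  rw [no45, Bool.and_eq_true, Bool.not_eq_true', ← Bool.not_eq_true, List.contains_iff_mem] at h
  have a4 : vv 7 c.y χ = -24 := by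
    have b1 := c.mem23_of (c.mem11.mpr ⟨n1, by omega⟩) (by omega) h23 hV
    have b2 := Is11.mem c h11 n1 (by omega)
    rcases List.mem_cons.mp b1 with e | e
    · exact absurd (e ▸ b2) h.1
    · simp [V48, row, d] at e
      exact e.2.1
  have v1 := cst_of_sc (loc23 c.hG c.hx).1 (χ := χ) (c := -1) (by rw [(c.v23 χ).2, d]; rfl)
  have v2 := cst_of_sc (loc11 c.hG c.hw).1 (χ := χ) (c := 1) (by rw [(c.v11 χ).2, d]; rfl)
  have v3 := cst_of_rat c.hy he (χ := χ) (c := -4) (by rw [a4]; rfl)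
  have v0 : (χ : G → ℂ) 1 = 45 := by rw [← dg_cast, d]; simp
  have h0 : nu χ = 1 := by
    rcases (nu_cases χ).2 with e | e | e
    · exact absurd ((a3 _).mpr ((dg_irrBar χ).trans d)) (nu_eq_zero_iff.mp e)
    · exact e
    · have := even_of_nu e; omega
  obtain ⟨M, hM⟩ := exists_dec (isCharacter_altSq (irr_isCharacter χ))
  have b1 := hM.dg (n := 990) (by simp [v0]; norm_num)
  have b2 := hM.inner_irr (irrOne G)
  rw [irrOne_coe, (inner_one_of_nu χ).2, h0] at b2
  have b3 : irrOne G ∉ M := Multiset.count_eq_zero.mp (by simpa using b2.symm)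
  obtain ⟨_, _, ⟨⟩⟩ := enumQ_map h.2 M (fun ψ => (dg ψ, vv 7 c.y ψ)) (fun ψ hψ => by
      have e1 : ψ ≠ irrOne G := fun e => b3 (e ▸ hψ)
      have e2 : (dg ψ : ℤ) ≤ 990 := b1 ▸ Multiset.single_le_sum
        (by simp only [Multiset.forall_mem_map_iff]; exact fun _ _ => Nat.cast_nonneg _) _ (Multiset.mem_map_of_mem _ hψ)
      rw [List.mem_append, or_iff_not_imp_right, List.mem_dedup]
      intro e3
      have e4 : dg ψ % 11 = 0 := by_contra fun e => e3 (List.mem_map.mpr ⟨_, List.mem_filter.mpr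
        ⟨Is11.mem c h11 e1 (by omega), Nat.ble_eq.mpr (show dg ψ ≤ 990 by omega)⟩, rfl⟩)
      by_cases e5 : dg ψ % 23 = 0
      · exact chkV _ (c.dg_mem ψ) e5 e4 (by omega) _
          (he ▸ hk ▸ mem_vls c.hy (by decide) c.hG ψ)
      · exact hS _ (Is23.mem c h23 e1 (by omega)) (show dg ψ ≤ 990 by omega) e4)
    (by simpa using b1) (by
      simp only [List.forall_mem_cons, List.not_mem_nil, false_imp_iff, implies_true, and_true,
        ← (c.v23 _).2, ← (c.v11 _).2]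
      exact ⟨hM.vv c.hx (by rw [v1.vC_alt c.hx (by decide)]; norm_num),
        hM.vv c.hw (by rw [v2.vC_alt c.hw (by decide)]; norm_num),
        hM.vv c.hy (by rw [v3.vC_alt c.hy (by decide)]; norm_num)⟩) (by simp) (by simp)

theorem r2 (he : ee c.y = 3) (hk : kk 7 c.y = 6) (h23 : c.Is23 R23) (h11 : c.Is11 R11') :
    False := by
  classical
  obtain ⟨Λ, sh, X, Y, -, -, h1, -, -, h4, -⟩ := exists_sys c.D c.hy c.hd (by decide)
  obtain ⟨χ, m, e⟩ := Multiset.mem_map.mp (h23 ▸ Multiset.mem_coe.mpr List.mem_cons_self)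
  obtain ⟨d, -, v, i⟩ : dg χ = 45 ∧ vv 5 c.u χ = 0 ∧ vv 7 c.y χ = -3 ∧ inB c.D χ = false := by
    simpa [row] using e
  obtain ⟨B, hB, hχ⟩ := h4 χ (by omega) fun e => by rw [inB_iff.mpr e] at i; exact absurd i (by decide)
  obtain ⟨s1, hb, s2⟩ := h1 B hB
  rw [c.hG, he, hk] at s1
  obtain ⟨s3, s4⟩ := chkS _ s1
  have hY : χ ∈ Y B := ((hb.mem χ).mp hχ).resolve_left fun e => s3 (by rw [← v, ← hb.vx χ e, d])
  have dY : ∀ ψ ∈ Y B, dg ψ = 45 := fun ψ a => d ▸ dg_eq_of_reg (hb.reg ψ a χ hY)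
  have cY : (Y B).card ≤ 2 := by
    have a1 := card_filter_eq (Bk c.A) dg 45
    rw [show (Bk c.A).val.map dg = ((Bk c.A).val.map c.row).map (·.1) by
      rw [Multiset.map_map]; rfl, ← h23] at a1
    refine (card_le_card fun ψ a => mem_filter.mpr ⟨c.mem23.mpr ⟨fun e => ?_, ?_⟩, dY ψ a⟩).trans
      a1.le
    · have := dY ψ a; rw [e, dg_one] at this; omega
    · rw [dY ψ a]; decide
  obtain ⟨t1, t2, t3⟩ := (s4 (by rw [← v, ← hb.vy χ hY, d])).resolve_right
    (by rw [← hb.cy]; omega)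
  have key : ∀ f : IrrCharacter G → ℤ, (∀ ψ ∈ Y B, f ψ = f χ) →
      (∀ g ∈ AA 7 c.y, ∑ χ, (f χ : ℂ) * (χ : G → ℂ) g = 0) →
      ∑ ψ ∈ X B, f ψ * vv 7 c.y ψ = 6 * f χ := fun f a b => by
    have := rel_int hb f b
    rw [sum_congr (s₁ := Y B) (g := fun _ => f χ * -3) rfl fun ψ e => by
      rw [a ψ e, ← hb.vy ψ e, dY ψ e, ← d, hb.vy χ hY, v], sum_const, hb.cy, t1] at this
    simp only [nsmul_eq_mul, Nat.cast_ofNat] at this
    linarith
  have k1 := key (vv 23 c.x) (fun ψ a => by rw [(c.v23 _).2, (c.v23 _).2, dY ψ a, d])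
    fun g hg => sum_vv_mul c.hx fun e => by have := hg.2; omega
  have k2 := key (vv 11 c.w) (fun ψ a => by rw [(c.v11 _).2, (c.v11 _).2, dY ψ a, d])
    fun g hg => sum_vv_mul c.hw fun e => by have := hg.2; omega
  have k3 : ∀ s, Ratl s → ¬ 7 ∣ orderOf s → _ := fun s a b => key (cv s)
    (fun ψ e => by rw [cv, cv, hb.reg ψ e χ hY s b]) fun g hg => sum_cv_mul a fun e => b (e ▸ hg.2)
  have k4 := k3 1 ratl_one (by simp)
  simp only [cv_one, (c.v23 _).2, (c.v11 _).2, d] at k1 k2 k4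
  obtain ⟨l, l1, l2⟩ := enumQ_map (chkB (X B).card (by
      have := t2 ▸ hb.cx
      simp only [List.mem_cons]; omega)) (X B).val (fun ψ => (dg ψ, vv 7 c.y ψ)) (fun ψ hψ => by
      have a1 := (hb.mem ψ).mpr (Or.inl hψ)
      have a2 : vv 7 c.y ψ = 6 ∨ vv 7 c.y ψ = -6 := by
        have := sv_cases 7 (sh B).im (sh B).a (dg ψ)
        have := hb.ne ψ a1
        rw [← Sh.x, hb.vx ψ hψ, t3] at *
        omega
      have a3 : inB c.D ψ = false := Bool.eq_false_iff.mpr fun e =>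
        disjoint_left.mp s2 a1 (inB_iff.mp e)
      have a4 : ψ ≠ irrOne G := fun e =>
        disjoint_left.mp s2 a1 (e ▸ mem_union_left _ c.D.one_mem)
      rw [LB, List.mem_append, or_iff_not_imp_left]
      intro a5
      by_cases a6 : 23 ∣ dg ψ
      · have a7 := Is11.mem c h11 a4 fun e => a5 (List.mem_flatMap.mpr ⟨_, List.mem_filter.mpr
          ⟨c.dg_mem ψ, decide_eq_true (by omega)⟩, by simpa using a2⟩)
        simp only [R11', row, a3, List.mem_cons, Prod.mk.injEq, List.not_mem_nil] at a7 ⊢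
        simp at a7
        omega
      · have a7 := Is23.mem c h23 a4 a6
        simp only [R23, row, a3, List.mem_cons, Prod.mk.injEq, List.not_mem_nil] at a7 ⊢
        simp at a7
        omega) (by simp) (by
      simp only [List.forall_mem_cons, List.not_mem_nil, false_imp_iff, implies_true, and_true]
      exact ⟨k1, k2, k4⟩) (by simp) (by simp)
  obtain ⟨l, l3, l4⟩ := exists_list_map (M := (X B).val) (r := fun ψ => (dg ψ, vv 7 c.y ψ))
    ((Multiset.coe_eq_coe.mpr (List.isPerm_iff.mp l2)).trans (by rw [← l1]; rfl))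
  obtain ⟨β, l, rfl, hβ, l4⟩ := List.map_eq_cons_iff.mp l4
  obtain ⟨γ, l, rfl, hγ, l4⟩ := List.map_eq_cons_iff.mp l4
  obtain ⟨δ, l, rfl, hδ, l4⟩ := List.map_eq_cons_iff.mp l4
  obtain rfl := List.map_eq_nil_iff.mp l4
  rw [Prod.mk.injEq] at hβ hγ hδ
  obtain ⟨s, hs⟩ := exists_prime_orderOf_dvd_card' (G := G) 2 (by rw [c.hG]; norm_num)
  have j1 : s * s = 1 := by rw [← sq, ← hs, pow_orderOf_eq_one]
  have j2 := ratl_of_sq j1
  have j3 : s ≠ 1 := fun e => by simp [e] at hs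
  have k5 := k3 s j2 (by omega)
  have k6 := key (fun ψ => (Nat.card G / dg ψ : ℕ) * (cv s ψ * cv s ψ))
    (fun ψ e => by simp only [cv, hb.reg ψ e χ hY s (by omega), dY ψ e, d]) fun g hg => by
      have := sum_pair_val j2 j2 g
      rw [pairN_sing c.hy (by decide) (by rw [he]; decide) j1 hg] at this
      simpa only [Int.cast_mul, Int.cast_natCast, Nat.cast_zero, mul_zero] using this
  simp only [Finset.sum, ← l3, Multiset.map_coe, Multiset.sum_coe, List.map_cons, List.sum_cons,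
    List.map_nil, List.sum_nil, hβ.1, hβ.2, hγ.1, hγ.2, hδ.1, hδ.2, d, c.hG] at k5 k6
  have j4 := cv_mod_four (hna c.hG) j1 χ
  have j5 := natAbs_cv_lt (hna c.hG) j2 j3 (c.mem23.mp m).1
  have j6 := dg_dvd_cv j2 χ
  have j7 : cv s γ * cv s γ ≤ cC s := sum_cv_sq j2 ▸ single_le_sum
    (f := fun ψ => cv s ψ * cv s ψ) (fun _ _ => mul_self_nonneg _) (mem_univ γ)
  have j8 : cC s ∣ 967680 := by
    have b1 : cC s ∣ 23 * (11 * 967680) := (card_subgroup_dvd_card _).trans c.hG.dvd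
    exact ((Nat.Prime.coprime_iff_not_dvd (by norm_num)).mpr (not_dvd_cC (loc11 c.hG c.hw).1 j3
      (by omega))).symm.dvd_of_dvd_mul_left (((Nat.Prime.coprime_iff_not_dvd (by norm_num)).mpr
        (not_dvd_cC (loc23 c.hG c.hx).1 j3 (by omega))).symm.dvd_of_dvd_mul_left b1)
  rw [d] at j4 j5 j6
  generalize cv s χ = a, cv s β = b, cv s γ = e, cv s δ = f at *
  obtain rfl : f = a + b + e := by omega
  have j9 : 704 * a = 9 * e := by
    norm_num at k6
    nlinarith [sq_nonneg (230 * a - 45 * b), sq_nonneg (704 * a - 9 * e),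
      sq_nonneg (3520 * b - 230 * e)]
  have j10 : 967680 = cC s := Nat.eq_of_dvd_of_lt_two_mul (by decide) j8 (by
    have : 704 ≤ e ∨ e ≤ -704 := by omega
    zify
    rcases this with h | h <;> nlinarith)
  rw [← j10, c.hG] at j6
  omega

end Cx

end CfsgLib.MathRec.T24
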