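import Mathlib
import Cfsg.Agent.Lib.MathRec.T24e
import Cfsg.Agent.Lib.MathRec.End24

/-!
A simple group of order 244823040: the character of degree 23.
-/

set_option autoImplicit false

namespace CfsgLib.MathRec.T24

open Cfsg CfsgLib.Char CfsgLib.Block CfsgLib.DefectOne CfsgLib.DefectOne.B43 CfsgLib.Tuan
  CfsgLib.ChTab Subgroup Finset MulAction T11 T23 V24

/-- The decompositions of a character with the given values, in terms of degrees. -/
noncomputable def dcq (L : List ℕ) (d c a b : ℤ) (P : List ℕ → Bool) : Bool :=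
  enumQ L [(fun r => r, 0, d), (fun r => if r = 1 then 1 else 0, 0, c)]
    [(fun r => vf 23 11 r, 0, a), (fun r => vf 11 10 r, 0, b)] [] [] P 300

theorem chkF : dcq [253, 252, 231, 45, 23, 1] 253 0 0 0 (· == [253]) = true ∧
    dcq [253, 252, 231, 45, 23, 1] 276 1 0 10 ([1, 23, 252].isPerm ·) = true := by decide +kernel

variable {G : Type*} [Group G] [Finite G] [IsSimpleGroup G] (c : Cx G)

theorem dcq_sound [Fintype G] {L : List ℕ} {d k a b : ℤ} {P : List ℕ → Bool}
    (hd : dcq L d k a b P = true) (hL : ∀ ψ : IrrCharacter G, (dg ψ : ℤ) ≤ d → dg ψ ∈ L)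
    {Θ : G → ℂ} (hΘ : IsCharacter G Θ) (h1 : Θ 1 = d) (h2 : classInner Θ (fun _ => 1) = k)
    (h3 : vC 23 c.x Θ = a) (h4 : vC 11 c.w Θ = b) :
    ∃ l : List (IrrCharacter G), Dec Θ l ∧ P (l.map dg) = true := by
  obtain ⟨M, hM⟩ := exists_dec hΘ
  obtain ⟨l, rfl, hl⟩ := enumQ_map hd M dg (fun ψ hψ => hL ψ (hM.dg h1 ▸ Multiset.single_le_sum
      (by simp only [Multiset.forall_mem_map_iff]; exact fun _ _ => Nat.cast_nonneg _) _
      (Multiset.mem_map_of_mem _ hψ)))
    (by simpa using ⟨hM.dg h1, by simpa using hM.one (hna c.hG) h2⟩) (by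
      simp only [List.forall_mem_cons, List.not_mem_nil, false_imp_iff, implies_true, and_true,
        ← (c.v23 _).2, ← (c.v11 _).2]
      exact ⟨hM.vv c.hx h3, hM.vv c.hw h4⟩) (by simp) (by simp)
  exact ⟨l, hM, hl⟩

theorem fin (h23 : c.Is23 R23) (h11 : c.Is11 R11) : Nonempty (G ≃* M24) := by
  classical
  have := Fintype.ofFinite G
  have a1 := card_filter_eq (Bk c.B) dg 23
  rw [show (Bk c.B).val.map dg = ((Bk c.B).val.map c.row).map (·.1) by
    rw [Multiset.map_map]; rfl, ← h11] at a1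
  obtain ⟨χ, a2⟩ := card_eq_one.mp a1
  have a3 : ∀ ψ, ψ = χ ↔ dg ψ = 23 := fun ψ => by
    rw [← mem_singleton, ← a2, mem_filter, c.mem11, and_iff_right_iff_imp]
    exact fun e => ⟨fun e' => by rw [e', dg_one] at e; omega, by omega⟩
  have d : dg χ = 23 := (a3 χ).mp rfl
  have v1 := cst_of_sc (loc23 c.hG c.hx).1 (χ := χ) (c := 0) (by rw [(c.v23 χ).2, d]; rfl)
  have v2 := cst_of_sc (loc11 c.hG c.hw).1 (χ := χ) (c := 1) (by rw [(c.v11 χ).2, d]; rfl)
  have v0 : (χ : G → ℂ) 1 = 23 := by rw [← dg_cast, d]; simp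
  have h0 : nu χ = 1 := by
    rcases (nu_cases χ).2 with e | e | e
    · exact absurd ((a3 _).mpr ((dg_irrBar χ).trans d)) (nu_eq_zero_iff.mp e)
    · exact e
    · have := even_of_nu e; omega
  have hL : ∀ ψ : IrrCharacter G, (dg ψ : ℤ) ≤ 276 → dg ψ ∈ [253, 252, 231, 45, 23, 1] :=
    fun ψ e => by
      by_cases e1 : ψ = irrOne G
      · simp [e1, dg_one]
      by_cases e2 : 23 ∣ dg ψ
      · by_cases e3 : 11 ∣ dg ψ
        · have := dg_pos ψ
          simp only [List.mem_cons]; omega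
        · have a7 := List.mem_map_of_mem (f := (·.1)) (Cx.Is11.mem c h11 e1 e3)
          simp [R11, Cx.row] at a7 ⊢
          omega
      · have a7 := List.mem_map_of_mem (f := (·.1)) (Cx.Is23.mem c h23 e1 e2)
        simp [R23, Cx.row] at a7 ⊢
        omega
  obtain ⟨i1, i2⟩ := inner_one_of_nu χ
  obtain ⟨lA, hA, gA⟩ := dcq_sound c chkF.1 (fun ψ e => hL ψ (by omega))
    (isCharacter_altSq (irr_isCharacter χ)) (by simp [v0]; norm_num) (by rw [i2, h0]; rfl)
    (by rw [v1.vC_alt c.hx (by decide)]; norm_num) (by rw [v2.vC_alt c.hw (by decide)]; norm_num)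
  obtain ⟨lS, hS, gS⟩ := dcq_sound c chkF.2 hL
    (isCharacter_symSq (irr_isCharacter χ)) (by simp [v0]; norm_num) (by rw [i1, h0]; rfl)
    (by rw [v1.vC_sym c.hx (by decide)]; norm_num) (by rw [v2.vC_sym c.hw (by decide)]; norm_num)
  rw [beq_iff_eq] at gA
  rw [List.isPerm_iff] at gS
  have g : ((lS ++ lA).map dg).Perm [1, 23, 252, 253] := by
    rw [List.map_append, gA]; exact gS.symm.append_right _
  obtain ⟨ψ, b1, b2⟩ := List.mem_map.mp (g.symm.subset (by decide : 23 ∈ [1, 23, 252, 253]))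
  obtain ⟨a, rfl⟩ := List.length_eq_one_iff.mp (by simpa using congrArg List.length gA)
  refine iso_M24_of_char c.hG (loc23 c.hG c.hx).1 d h0 (Dec.isIrr (ψ := a) hA) ?_
  rw [(dec_sq hA hS).inner_irr, Multiset.coe_add, Multiset.count_eq_one_of_mem
    (Multiset.coe_nodup.mpr ((g.nodup_iff.mpr (by decide)).of_map dg)) ((a3 ψ).mpr b2 ▸ b1),
    Nat.cast_one]

end CfsgLib.MathRec.T24
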