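import Mathlib
import Cfsg.Agent.Lib.MathRec.T24l

/-!
A simple group of order 244823040: the character of degree 22.
-/

set_option autoImplicit false

namespace CfsgLib.MathRec.T24

open Cfsg CfsgLib.Char CfsgLib.Block CfsgLib.DefectOne CfsgLib.DefectOne.B43 CfsgLib.Tuan
  CfsgLib.ChTab CfsgLib.PF CfsgLib.BG Subgroup Finset MulAction T11 T23 V24

/-- The small degrees. -/
def L22 : List ℕ := [253, 252, 231, 230, 45, 23, 22, 1]

theorem chkK : dcq L22 231 0 22 0 (· == [231]) = true ∧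
    dcq L22 231 1 22 0 ([1, 230].isPerm ·) = true ∧
    dcq L22 253 1 0 0 (fun l => l.contains 252 || [1, 22, 230].isPerm l) = true ∧
    dcq L22 253 0 0 0 (fun l => l == [253] || [23, 230].isPerm l || [22, 231].isPerm l) = true ∧
    (∀ d ∈ Dg, d ≤ 253 → d = 11 ∨ d = 12 ∨ d ∈ L22) ∧
    ∀ a ∈ Dg, ∀ b ∈ Dg, ∀ s ∈ [6, -6], ∀ t ∈ [6, -6], (7 : ℤ) ∣ a + s → (7 : ℤ) ∣ b + t →
      12420 + s * a + t * b = 0 → 5 ∣ a ∧ 5 ∣ b := by decide +kernel

variable {G : Type*} [Group G] [Finite G]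

section
variable {p : ℕ} [hp : Fact p.Prime] {x : G} {ζ : ℂ}

theorem sing_of_dec (D : PrinData p x ζ) (hs : Syl p x) {Θ : G → ℂ}
    {M : Multiset (IrrCharacter G)} (h : Dec Θ M) {n : ℤ}
    (hn : ∀ a : (ZMod p)ˣ, ∀ y ∈ hs.KK, Θ (x ^ (a : ZMod p).val * y) = n) :
    (M.map fun ψ => if inB D ψ = true then vv p x ψ else 0).sum = (p - 1) * n := by
  have e : (kk p x : ℂ) * ((M.map fun ψ => if inB D ψ = true then vv p x ψ else 0).sum : ℤ) =
      kk p x * ((p - 1) * n) := by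
    have h1 : ∑ a : (ZMod p)ˣ, ∑ y ∈ els (hs.KK : Set G), Θ (x ^ (a : ZMod p).val * y) =
        kk p x * ((p - 1) * n) := by
      rw [sum_congr rfl fun a _ => sum_congr rfl fun y hy => hn a y (mem_els.mp hy), sum_const,
        sum_const, card_els, ← Nat.card_coe_set_eq, SetLike.coe_sort_coe, card_KK, card_univ,
        ZMod.card_units, nsmul_eq_mul, nsmul_eq_mul, Nat.cast_pred hp.out.pos]
      ring
    simp only [h.eq, sum_map_comm, sum_sing D hs] at h1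
    rw [← h1, Int.cast_multiset_sum, Multiset.map_map, ← Multiset.sum_map_mul_left]
    exact congrArg _ (Multiset.map_congr rfl fun ψ _ => by simp)
  exact_mod_cast mul_left_cancel₀ (Nat.cast_ne_zero.mpr (kk_pos hs).ne') e

open Classical in
theorem sum_Bk (D : PrinData p x ζ) (f : IrrCharacter G → ℤ) :
    ∑ χ ∈ D.X ∪ Ys D, f χ = f (irrOne G) + ∑ χ ∈ Bk D, f χ :=
  (add_sum_erase _ f (mem_union_left _ D.one_mem)).symm

end

variable [IsSimpleGroup G] (c : Cx G)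

theorem b0_of {ψ : IrrCharacter G} (h : inB c.D ψ = true) : ψ ∈ c.D.X ∨ ψ ∈ Ys c.D := by
  classical exact mem_union.mp (inB_iff.mp h)

theorem v7 (he : ee c.y = 6) {ψ : IrrCharacter G} (h : inB c.D ψ = true) :
    (vv 7 c.y ψ = 6 ∨ vv 7 c.y ψ = -6) ∧ (7 : ℤ) ∣ dg ψ + vv 7 c.y ψ := by
  have h1 := cdrow_of c.D c.hy c.hd (b0_of c h)
  simp only [cdrow, scrow', he, Bool.or_eq_true, Bool.and_eq_true, beq_iff_eq, bne_iff_ne] at h1
  exact ⟨by omega, dvd_add_vv c.hy ψ⟩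

theorem six (he : ee c.y = 6) {χ φ ψ : IrrCharacter G} (h1 : dg χ = 22) (h2 : dg φ = 230)
    (h3 : dg ψ = 253) (b1 : inB c.D χ = true) (b2 : inB c.D φ = true) (b3 : inB c.D ψ = true)
    (v1 : vv 5 c.u χ = 8) (v3 : vv 5 c.u ψ = 12) : False := by
  classical
  obtain ⟨b, h4, v4, w4, b4⟩ := c.exists_2024
  have m : ∀ {θ : IrrCharacter G}, dg θ ≠ 1 → inB c.D θ = true → θ ∈ Bk c.D := fun a b =>
    mem_Bk.mpr ⟨fun e => a (e ▸ dg_one), mem_union.mp (inB_iff.mp b)⟩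
  have ne : ∀ {θ η : IrrCharacter G}, dg θ ≠ dg η → θ ≠ η := fun a e => a (e ▸ rfl)
  have hs : {χ, φ, ψ, b} ⊆ Bk c.D := by
    simp only [insert_subset_iff, singleton_subset_iff]
    exact ⟨m (by omega) b1, m (by omega) b2, m (by omega) b3, b4⟩
  have key : ∀ f : IrrCharacter G → ℤ, ∑ θ ∈ Bk c.D, f θ =
      ∑ θ ∈ Bk c.D \ {χ, φ, ψ, b}, f θ + (f χ + (f φ + (f ψ + f b))) := fun f => by
    rw [← sum_sdiff hs, sum_insert, sum_insert, sum_pair (ne (by omega))] <;>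
      simp only [mem_insert, mem_singleton, not_or] <;> refine ⟨ne ?_, ?_⟩
    exacts [by omega, ne (by omega), by omega, ⟨ne (by omega), ne (by omega)⟩]
  have k0 := key fun _ => 1
  simp only [sum_const, card_Bk c.D c.hy c.hd, he, nsmul_eq_mul] at k0
  obtain ⟨s, t, hst, e⟩ := card_eq_two.mp (show (Bk c.D \ {χ, φ, ψ, b}).card = 2 by omega)
  have hs := inB_iff.mpr (mem_of_mem_erase (mem_sdiff.mp (e ▸ mem_insert_self s {t})).1)
  have ht := inB_iff.mpr (mem_of_mem_erase (mem_sdiff.mp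
    (e ▸ mem_insert_of_mem (mem_singleton_self t))).1)
  have k1 : ∑ θ ∈ c.D.X ∪ Ys c.D, vv 7 c.y θ * dg θ = 0 := by
    have := sum_b0_reg c.D c.hy c.hd (g := 1) (by simp)
    simp only [← dg_cast] at this
    exact_mod_cast this
  have k2 : ∑ θ ∈ c.D.X ∪ Ys c.D, vv 7 c.y θ * vv 5 c.u θ = 0 := by
    have : ∑ θ ∈ c.D.X ∪ Ys c.D, (vv 7 c.y θ : ℂ) * vv 5 c.u θ = 0 := by
      simp only [vv_cast c.hu, vC, mul_sum]
      rw [sum_comm]
      exact sum_eq_zero fun a _ => sum_b0_reg c.D c.hy c.hd (by rw [orderOf_pow_unit c.hu]; decide)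
    exact_mod_cast this
  have w1 := v7 c he b1
  have w2 := v7 c he b2
  have w3 := v7 c he b3
  rw [sum_Bk, key, e, sum_pair hst, vv_one, w4, show vv 7 c.y χ = 6 by omega,
    show vv 7 c.y φ = -6 by omega, show vv 7 c.y ψ = 6 by omega] at k1 k2
  rw [dg_one, h1, h2, h3, h4] at k1
  obtain ⟨e1, e2⟩ := chkK.2.2.2.2.2 _ (c.dg_mem s) _ (c.dg_mem t) _ (by simpa using (v7 c he hs).1)
    _ (by simpa using (v7 c he ht).1) (v7 c he hs).2 (v7 c he ht).2 (by push_cast at k1; linarith)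
  rw [vv_one c.hu, v1, v3, v4, vv_dz c.hu e1, vv_dz c.hu e2, vv_dz c.hu (χ := φ) (by omega)] at k2
  omega
  exacts [c.hy, c.hy]

theorem t22 (he : ee c.y = 6) (hk : 2 ∣ kk 7 c.y) {χ : IrrCharacter G} (h1 : dg χ = 22)
    (hu : ∀ ψ : IrrCharacter G, dg ψ = 22 → ψ = χ) (h5 : vv 5 c.u χ = 8 ∨ vv 5 c.u χ = -12)
    (h7 : inB c.D χ = true) (h11 : ∀ ψ : IrrCharacter G, dg ψ ≠ 11 ∧ dg ψ ≠ 12) :
    (∃ ψ : IrrCharacter G, dg ψ = 231) ∧ ∃ ψ : IrrCharacter G, dg ψ = 252 := by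
  classical
  have := Fintype.ofFinite G
  have v1 := cst_of_sc (loc23 c.hG c.hx).1 (χ := χ) (c := -1) (by rw [(c.v23 χ).2, h1]; rfl)
  have v2 := cst_of_sc (loc11 c.hG c.hw).1 (χ := χ) (c := 0) (by rw [(c.v11 χ).2, h1]; rfl)
  have v3 := cst_of_rat c.hy he (χ := χ) (c := 1) (by have := v7 c he h7; omega)
  have v0 : (χ : G → ℂ) 1 = 22 := by rw [← dg_cast, h1]; simp
  have h0 : nu χ ≠ 0 := fun e => nu_eq_zero_iff.mp e (hu _ ((dg_irrBar χ).trans h1))
  have n1 : χ ≠ irrOne G := fun e => by rw [e, dg_one] at h1; omega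
  have s1 : ∀ a : (ZMod 7)ˣ, ∀ z ∈ c.hy.KK, (χ : G → ℂ) (c.y ^ (a : ZMod 7).val * z) = 1 :=
    fun a z hz => by
      rw [b0_val c.D c.hy (b0_of c h7) (mem_CC.mp hz.1) hz.2
        (ZMod.val_pos.mpr a.ne_zero) (ZMod.val_lt _), v3 a, Int.cast_one]
  have s2 : ∀ a : (ZMod 7)ˣ, ∀ z ∈ c.hy.KK,
      (χ : G → ℂ) (c.y ^ (a : ZMod 7).val * z * (c.y ^ (a : ZMod 7).val * z)) = 1 :=
    fun a z hz => by
      obtain ⟨b, hb⟩ := exists_unit_pow c.hy (k := (a : ZMod 7).val * 2)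
        ((ZMod.val_coe_unit_coprime a).mul_left (by decide))
      rw [← sq, ((mem_CC.mp hz.1).pow_left _).mul_pow, ← pow_mul, ← hb, s1 b _ (pow_mem hz 2)]
  obtain ⟨i1, i2⟩ := inner_one_of_nu χ
  have hL : ∀ ψ : IrrCharacter G, (dg ψ : ℤ) ≤ 253 → dg ψ ∈ L22 := fun ψ e =>
    ((chkK.2.2.2.2.1 _ (c.dg_mem ψ) (by omega)).resolve_left (h11 ψ).1).resolve_left (h11 ψ).2
  have kA := fun k P (h : dcq L22 231 k 22 0 P = true) e => dcq_sound c h
    (fun ψ e => hL ψ (by omega)) (isCharacter_altSq (irr_isCharacter χ)) (by simp [v0]; norm_num) e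
    (by rw [v1.vC_alt c.hx (by decide)]; norm_num) (by rw [v2.vC_alt c.hw (by decide)]; norm_num)
  have kS := fun k P (h : dcq L22 253 k 0 0 P = true) e => dcq_sound c h hL
    (isCharacter_symSq (irr_isCharacter χ)) (by simp [v0]; norm_num) e
    (by rw [v1.vC_sym c.hx (by decide)]; norm_num) (by rw [v2.vC_sym c.hw (by decide)]; norm_num)
  rcases (nu_cases χ).2 with h | h | h
  · exact absurd h h0
  · obtain ⟨lA, hA, gA⟩ := kA _ _ chkK.1 (by rw [i2, h]; rfl)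
    obtain ⟨lS, hS, gS⟩ := kS _ _ chkK.2.2.1 (by rw [i1, h]; rfl)
    obtain ⟨a, l, rfl, ha, e⟩ := List.map_eq_cons_iff.mp (beq_iff_eq.mp gA)
    obtain rfl := List.map_eq_nil_iff.mp e
    refine ⟨⟨a, ha⟩, (Bool.or_eq_true_iff.mp gS).elim (fun e => ?_) fun e => ?_⟩
    · obtain ⟨ψ, -, e⟩ := List.mem_map.mp (List.contains_iff_mem.mp e)
      exact ⟨ψ, e⟩
    obtain ⟨ψ, b1, b2⟩ := List.mem_map.mp ((List.isPerm_iff.mp e).subset (by decide : 22 ∈ _))
    obtain ⟨H, -, hH⟩ := Norton.exists_perm_char χ.2 (conj_eq_of_nu h0) (n := 22) v0 (by norm_num)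
      (Dec.isIrr (ψ := a) hA) (by
        rw [(dec_sq hA hS).inner_irr, Nat.cast_ne_zero, Multiset.count_ne_zero]
        exact Multiset.mem_add.mpr (Or.inl (hu ψ b2 ▸ b1)))
    obtain ⟨z, hz⟩ := exists_prime_orderOf_dvd_card' (G := c.hy.KK) 2 (by rwa [card_KK])
    rw [← orderOf_coe] at hz
    have j1 : (z : G) * z = 1 := by rw [← sq, ← hz, pow_orderOf_eq_one]
    have j2 := ratl_of_sq j1
    have j3 := cv_mod_four (hna c.hG) j1 χ
    have j4 := natAbs_cv_lt (hna c.hG) j2 (fun e => by simp [e] at hz) n1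
    have j5 : (7 : ℤ) ∣ 1 - cv (z : G) χ := by
      obtain ⟨M, hM⟩ := exists_isPModular' (p := 7) (by norm_num)
      have := li_char_mul_sub hM (irr_isCharacter χ) (x := c.y) (y := z) ⟨1, c.hy.ord⟩
        (mem_CC.mp z.2.1)
      rw [show (χ : G → ℂ) (c.y * z) = 1 by simpa [ZMod.val_one] using s1 1 z z.2] at this
      exact (li_intCast_iff hM _).mp (by rwa [Int.cast_sub, cv_cast j2, Int.cast_one])
    have j6 := cv_eq (g := (z : G)) (χ := χ) (n := Nat.card (fixedBy (G ⧸ H) (z : G)) - 1)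
      (by rw [hH]; simp)
    omega
  exfalso
  obtain ⟨lA, hA, gA⟩ := kA _ _ chkK.2.1 (by rw [i2, h]; rfl)
  obtain ⟨lS, hS, gS⟩ := kS _ _ chkK.2.2.2.1 (by rw [i1, h]; rfl)
  have two : ∀ {l : List (IrrCharacter G)} {m n : ℕ}, [m, n].isPerm (l.map dg) = true →
      ∃ a b, (l : Multiset (IrrCharacter G)) = {a, b} ∧ dg a = m ∧ dg b = n := fun {l _ _} e => by
    obtain ⟨l, l1, l2⟩ := exists_list_map (M := (l : Multiset (IrrCharacter G))) (r := dg)
      (Multiset.coe_eq_coe.mpr (List.isPerm_iff.mp e))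
    obtain ⟨a, l, rfl, ha, l2⟩ := List.map_eq_cons_iff.mp l2
    obtain ⟨b, l, rfl, hb, l2⟩ := List.map_eq_cons_iff.mp l2
    obtain rfl := List.map_eq_nil_iff.mp l2
    exact ⟨a, b, l1.symm, ha, hb⟩
  obtain ⟨o, φ, e, ho, hφ⟩ := two gA
  rw [e] at hA
  obtain rfl := (one_row (hna c.hG) (f := id) rfl o).resolve_left (not_not.mpr ho)
  have a1 := sing_of_dec c.D c.hy hA (n := 0) fun a z hz => by simp [s1 a z hz, s2 a z hz]
  have a2 := sing_of_dec c.D c.hy hS (n := 1) fun a z hz => by simp [s1 a z hz, s2 a z hz]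
  have a0 : inB c.D (irrOne G) = true := by simp [inB_iff, c.D.one_mem]
  have a3 : inB c.D φ = true := by
    by_contra e
    simp [e, a0, vv_one c.hy] at a1
  have e5 := (loc5 c.hG c.hu c.hc c.C).1
  have a4 : vv 5 c.u χ = 8 := h5.resolve_right fun e => by
    have := hA.vv c.hu (n := 24) (by
      rw [(cst_of_rat c.hu e5 (χ := χ) (c := -3) (e.trans rfl)).vC_alt c.hu (by decide)]; norm_num)
    simp [vv_one c.hu, vv_dz c.hu (χ := φ) (by omega)] at this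
  simp only [Bool.or_eq_true, beq_iff_eq] at gS
  rcases gS with (gS | gS) | gS
  · obtain ⟨ψ, l, rfl, hψ, e⟩ := List.map_eq_cons_iff.mp gS
    obtain rfl := List.map_eq_nil_iff.mp e
    refine six c he h1 hφ hψ h7 a3 (by_contra fun e => by simp [e] at a2) a4 ?_
    simpa using hS.vv c.hu (n := 12) (by
      rw [(cst_of_rat c.hu e5 (χ := χ) (c := 2) a4).vC_sym c.hu (by decide)]; norm_num)
  · obtain ⟨α, β, e, hα, hβ⟩ := two gS
    have b1 := v7 c he (ψ := α)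
    have b2 := v7 c he (ψ := β)
    rw [e] at a2
    by_cases e1 : inB c.D α = true <;> by_cases e2 : inB c.D β = true <;>
      simp [e1, e2] at a2 b1 b2 <;> omega
  · obtain ⟨α, β, e, hα, hβ⟩ := two gS
    rw [e] at hS
    have := nu_eq_one_of_nodup (conj_eq_of_nu h0) hA hS (Multiset.Nodup.of_map dg (by
      simp [hα, hβ, hφ, dg_one])) (ψ := χ) (by simp [hu α hα])
    omega

end CfsgLib.MathRec.T24
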