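import Mathlib
import Cfsg.Agent.Lib.MathRec.End
import Cfsg.Agent.Lib.MathRec.T12

/-!
The Mathieu group of degree 12 is the only simple group of its order.
-/

set_option autoImplicit false

namespace CfsgLib.MathRec

open Cfsg

theorem uniq_M12 {G : Type*} [Group G] [Finite G] [IsSimpleGroup G] (h : Nat.card G = 95040) :
    Nonempty (G ≃* Spor.M12) := by
  haveI := Fintype.ofFinite G
  obtain ⟨H, hH, hs⟩ := T12.exists_sharp h
  haveI := Fintype.ofFinite (G ⧸ H)
  exact iso_M12 (by rw [← Nat.card_eq_fintype_card]; exact hH) hs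

end CfsgLib.MathRec
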