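import Mathlib
import Cfsg.Agent.Lib.MathRec.T24e
import Cfsg.Agent.Lib.MathRec.T24k

/-!
A simple group of order 244823040 is isomorphic to `M24`.
-/

set_option autoImplicit false

namespace CfsgLib.MathRec

open Cfsg CfsgLib.Char CfsgLib.DefectOne CfsgLib.DefectOne.B43 CfsgLib.Tuan CfsgLib.ChTab Finset
  T24 V24

theorem uniq_M24 {G : Type*} [Group G] [Finite G] [IsSimpleGroup G] (h : Nat.card G = 244823040) :
    Nonempty (G ≃* M24) := by
  classical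
  obtain ⟨c⟩ := exists_cx h
  obtain ⟨R, h1, h2⟩ := c.s4.2
  have h3 := loc7 c.hG c.hy
  rw [fin4] at h2
  split_ifs at h2 with he
  · simp only [Bool.or_eq_true, Bool.and_eq_true, beq_iff_eq] at h2
    rcases h2 with ⟨hk, h2⟩ | ⟨⟨hk, h2⟩, h4⟩
    · have h4 : c.Is23 R23 := (Multiset.coe_eq_coe.mpr (List.isPerm_iff.mp h2)).trans h1
      obtain ⟨R', h5, h6⟩ := c.g5_sound (he ▸ hk ▸ chk6) h4 (by decide) (by decide)
      rcases Bool.or_eq_true_iff.mp h6 with h6 | h6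
      · exact fin c h4 ((Multiset.coe_eq_coe.mpr (List.isPerm_iff.mp h6)).trans h5)
      · exact (c.r2 he hk h4 ((Multiset.coe_eq_coe.mpr (List.isPerm_iff.mp h6)).trans h5)).elim
    · obtain ⟨_, _, ⟨⟩⟩ := c.g5_sound (he ▸ hk ▸ chk48) h1 h2 h4
  simp only [List.mem_cons, Prod.mk.injEq, List.not_mem_nil, or_false] at h3
  have he' : ee c.y = 6 := by omega
  simp only [Bool.or_eq_true, Bool.and_eq_true, beq_iff_eq, List.all_eq_true, Nat.ble_eq,
    bne_iff_ne, Bool.not_eq_true', ← Bool.not_eq_true, List.contains_iff_mem, Nat.blt_eq] at h2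
  obtain ⟨⟨⟨a1, a2⟩, a3⟩, a4⟩ := h2
  have a5 := card_filter_eq (Bk c.A) dg 22
  rw [show (Bk c.A).val.map dg = ((Bk c.A).val.map c.row).map (·.1) by
    rw [Multiset.map_map]; rfl, ← h1, Multiset.map_coe, Multiset.coe_count, a2] at a5
  obtain ⟨χ, a6⟩ := card_eq_one.mp a5
  have hm : ∀ {ψ : IrrCharacter G}, dg ψ ≠ 1 → ¬ 23 ∣ dg ψ → c.row ψ ∈ R := fun a b =>
    Cx.Is23.mem c h1 (fun e => a (e ▸ dg_one)) b
  have a7 : ∀ ψ, ψ = χ ↔ dg ψ = 22 := fun ψ => by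
    rw [← mem_singleton, ← a6, mem_filter, c.mem23, and_iff_right_iff_imp]
    exact fun e => ⟨fun e' => by rw [e', dg_one] at e; omega, by omega⟩
  have d : dg χ = 22 := (a7 χ).mp rfl
  have a8 := (a3 _ (hm (ψ := χ) (by omega) (by omega))).2.resolve_left (not_not.mpr d)
  obtain ⟨⟨φ, b1⟩, ψ, b2⟩ := t22 c he' (Nat.dvd_of_mod_eq_zero a1) d (fun ψ => (a7 ψ).mpr) a8.1
    a8.2 fun ψ => by
      refine ⟨fun e => ?_, fun e => ?_⟩ <;>
      · have : 22 ≤ dg ψ := (a3 _ (hm (by omega) (by omega))).1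
        omega
  obtain ⟨⟨⟨hk, b3⟩, b4⟩, b5⟩ := a4.resolve_left (not_not.mpr
    ⟨List.mem_map.mpr ⟨_, hm (ψ := φ) (by omega) (by omega), b1⟩,
      List.mem_map.mpr ⟨_, hm (ψ := ψ) (by omega) (by omega), b2⟩⟩)
  obtain ⟨R', h5, h6⟩ := c.g5_sound (he' ▸ hk ▸ chk24) h1 b3 b4
  exact (c.t45 he' hk h1 b3 b4 (fun r hr a b => (b5 r hr).resolve_left (by omega)) h5 h6).elim

end CfsgLib.MathRec
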